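/-
Elementary facts for groups all of whose Sylow subgroups are abelian.
-/
import Mathlib.GroupTheory.Sylow
import Mathlib.GroupTheory.GroupAction.Quotient
import Mathlib.Algebra.BigOperators.Group.Finset.Basic
import Mathlib.Data.ZMod.Basic

set_option autoImplicit false

namespace CfsgLib.AGroups

open Subgroup

/-- All Sylow subgroups are abelian. -/
def AbelianSylows (G : Type*) [Group G] : Prop :=
  ∀ (p : ℕ) [Fact p.Prime] (P : Sylow p G), IsMulCommutative (P : Subgroup G)

variable {G : Type*} [Group G]

theorem AbelianSylows.comm (hA : AbelianSylows G) {p : ℕ} [Fact p.Prime] {U : Subgroup G}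
    (hU : IsPGroup p U) {a b : G} (ha : a ∈ U) (hb : b ∈ U) : a * b = b * a := by
  obtain ⟨P, hP⟩ := hU.exists_le_sylow
  have := (hA p P).is_comm.comm ⟨a, hP ha⟩ ⟨b, hP hb⟩
  exact congrArg Subtype.val this

theorem AbelianSylows.subgroup (hA : AbelianSylows G) (H : Subgroup G) : AbelianSylows H := by
  intro p _ P
  refine ⟨⟨fun a b => Subtype.ext (Subtype.ext ?_)⟩⟩
  exact hA.comm (P.2.map H.subtype) (mem_map_of_mem _ a.2) (mem_map_of_mem _ b.2)

theorem AbelianSylows.of_surjective [Finite G] (hA : AbelianSylows G) {H : Type*} [Group H]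
    {f : G →* H} (hf : Function.Surjective f) : AbelianSylows H := by
  intro p _ P
  obtain ⟨Q, rfl⟩ := Sylow.mapSurjective_surjective hf p P
  refine ⟨⟨fun a b => Subtype.ext ?_⟩⟩
  obtain ⟨a', ha', ha''⟩ := Subgroup.mem_map.1 a.2
  obtain ⟨b', hb', hb''⟩ := Subgroup.mem_map.1 b.2
  simp only [Subgroup.coe_mul]
  rw [← ha'', ← hb'', ← map_mul, ← map_mul, hA.comm Q.2 ha' hb']

theorem AbelianSylows.quotient [Finite G] (hA : AbelianSylows G) (N : Subgroup G) [N.Normal] :
    AbelianSylows (G ⧸ N) :=
  hA.of_surjective (QuotientGroup.mk'_surjective N)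

/-- An involution of a finite set preserves the parity of the set. -/
theorem card_mod_two_of_involutive {α : Type*} [DecidableEq α] (s : Finset α) (f : α → α)
    (hmem : ∀ a ∈ s, f a ∈ s) (hinv : ∀ a ∈ s, f (f a) = a) :
    s.card % 2 = (s.filter fun a => f a = a).card % 2 := by
  have h : (∑ a ∈ s.filter (fun a => ¬ f a = a), (1 : ZMod 2)) = 0 := by
    refine Finset.sum_involution (fun a _ => f a) (fun a _ => by decide) ?_ ?_ ?_
    · intro a ha _
      exact (Finset.mem_filter.1 ha).2
    · intro a ha
      rw [Finset.mem_filter] at ha ⊢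
      exact ⟨hmem a ha.1, fun h => ha.2 (by rw [hinv a ha.1] at h; exact h.symm)⟩
    · intro a ha
      exact hinv a (Finset.mem_filter.1 ha).1
  rw [Finset.sum_const, nsmul_one, ZMod.natCast_eq_zero_iff_even, Nat.even_iff] at h
  have := Finset.card_filter_add_card_filter_not (fun a => f a = a) (s := s)
  omega

/-- A group acting semiregularly off a set of fixed points divides the number of other points. -/
theorem card_dvd_of_semiregular {H α : Type*} [Group H] [Finite H] [Finite α] [MulAction H α]
    (F : Set α) (hF : ∀ a ∈ F, ∀ h : H, h • a = a)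
    (hfree : ∀ a, a ∉ F → ∀ h : H, h • a = a → h = 1) :
    Nat.card H ∣ Nat.card α - F.ncard := by
  classical
  have : Fintype α := Fintype.ofFinite α
  have : Fintype H := Fintype.ofFinite H
  have hcard : Nat.card α - F.ncard = (Fᶜ : Set α).ncard := by rw [Set.ncard_compl]
  rw [hcard]
  let X : SubMulAction H α :=
    { carrier := Fᶜ
      smul_mem' := fun h a ha hmem => ha (by
        have := hF _ hmem h⁻¹
        rw [inv_smul_smul] at this
        exact this ▸ hmem) }
  have hst : ∀ x : X, MulAction.stabilizer H x = ⊥ := fun x =>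
    (Subgroup.eq_bot_iff_forall _).2 fun h hh =>
      hfree x.1 x.2 h (congrArg Subtype.val (MulAction.mem_stabilizer_iff.1 hh))
  have horb : ∀ x : X, Nat.card (MulAction.orbit H x) = Nat.card H := fun x => by
    have := MulAction.card_orbit_mul_card_stabilizer_eq_card_group H x
    simp only [hst x, ← Nat.card_eq_fintype_card, Subgroup.card_bot, mul_one] at this
    exact this
  rw [← Nat.card_coe_set_eq]
  change Nat.card H ∣ Nat.card X
  rw [Nat.card_congr (MulAction.selfEquivSigmaOrbits H X), Nat.card_sigma]
  exact Finset.dvd_sum fun ω _ => (horb ω.out) ▸ dvd_rfl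

end CfsgLib.AGroups
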