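/-
A putative simple group with abelian Sylow subgroups which has a subgroup of odd order and `2`-power
index: structure of the involution centralizers and double transitivity.
-/
import Cfsg.Agent.AGroups.Basic
import Cfsg.Agent.PLocal.PSolvable
import Cfsg.Agent.GroupBasics.Conjugates

set_option autoImplicit false

namespace CfsgLib.AGroups

open Subgroup

/-- The configuration to be refuted: `G` simple nonabelian with abelian Sylow subgroups, `B` of odd
order and of index the order of a Sylow `2`-subgroup `S`, proper involution centralizers solvable. -/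
structure Setup (G : Type*) [Group G] [Finite G] where
  hA : AbelianSylows G
  S : Sylow 2 G
  B : Subgroup G
  hBodd : Odd (Nat.card B)
  hidx : B.index = Nat.card S
  hsimple : IsSimpleGroup G
  hna : ¬ ∀ a b : G, a * b = b * a
  hC : ∀ u ∈ (S : Subgroup G), u ≠ 1 → Group.IsSolvable ↥(centralizer ({u} : Set G))
  hinv : ∃ t ∈ (S : Subgroup G), t * t = 1 ∧ t ≠ 1

namespace Setup

variable {G : Type*} [Group G] [Finite G] (σ : Setup G)

theorem scomm {a b : G} (ha : a ∈ (σ.S : Subgroup G)) (hb : b ∈ (σ.S : Subgroup G)) :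
    a * b = b * a := σ.hA.comm σ.S.2 ha hb

theorem coprime_card : (Nat.card (σ.S : Subgroup G)).Coprime (Nat.card σ.B) := by
  obtain ⟨k, hk⟩ := σ.S.2.exists_card_eq
  rw [hk]
  exact (Nat.coprime_two_left.2 σ.hBodd).pow_left k

theorem isComplement' : IsComplement' (σ.S : Subgroup G) σ.B :=
  isComplement'_of_coprime (by rw [← σ.hidx, mul_comm, σ.B.card_mul_index]) σ.coprime_card

theorem eq_one_of_mem {x : G} (hS : x ∈ (σ.S : Subgroup G)) (hB : x ∈ σ.B) : x = 1 :=
  (Subgroup.eq_bot_iff_forall _).1 σ.isComplement'.disjoint.eq_bot x ⟨hS, hB⟩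

theorem decomp (g : G) : ∃ s ∈ (σ.S : Subgroup G), s⁻¹ * g ∈ σ.B := by
  obtain ⟨⟨⟨s, hs⟩, b, hb⟩, hgb⟩ := σ.isComplement'.2 g
  refine ⟨s, hs, ?_⟩
  simp only at hgb
  rw [← hgb, inv_mul_cancel_left]
  exact hb

theorem decomp' (g : G) : ∃ s ∈ (σ.S : Subgroup G), g * s ∈ σ.B := by
  obtain ⟨s, hs, hb⟩ := σ.decomp g⁻¹
  exact ⟨s, hs, by simpa using inv_mem hb⟩

theorem uniq {a b : G} (ha : a ∈ (σ.S : Subgroup G)) (hb : b ∈ (σ.S : Subgroup G))
    (h : a⁻¹ * b ∈ σ.B) : a = b :=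
  inv_mul_eq_one.1 (σ.eq_one_of_mem (mul_mem (inv_mem ha) hb) h)

theorem relIndex_self : σ.B.relIndex (σ.S : Subgroup G) = Nat.card σ.S := by
  have h : σ.B.subgroupOf (σ.S : Subgroup G) = ⊥ :=
    subgroupOf_eq_bot.2 σ.isComplement'.disjoint.symm
  rw [relIndex, h, index_bot]

theorem relIndex_eq {H : Subgroup G} (h : (σ.S : Subgroup G) ≤ H) :
    σ.B.relIndex H = Nat.card σ.S := by
  refine le_antisymm ?_ ?_
  · rw [← σ.hidx, ← relIndex_top_right]
    exact relIndex_le_of_le_right le_top (by rw [relIndex_top_right]; exact index_ne_zero_of_finite)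
  · rw [← σ.relIndex_self]
    exact relIndex_le_of_le_right h index_ne_zero_of_finite

include σ in
theorem normal_eq_bot {N : Subgroup G} [hN : N.Normal] (h : N ≠ ⊤) : N = ⊥ :=
  (σ.hsimple.eq_bot_or_eq_top_of_normal N hN).resolve_right h

theorem B_ne_top : σ.B ≠ ⊤ := by
  intro h
  obtain ⟨t, ht, -, ht1⟩ := σ.hinv
  exact ht1 (σ.eq_one_of_mem ht (h ▸ mem_top t))

include σ in
theorem normalCore_eq_bot {H : Subgroup G} (hH : H ≠ ⊤) : H.normalCore = ⊥ :=
  σ.normal_eq_bot fun h => hH (top_le_iff.1 (h ▸ H.normalCore_le))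

/-- Elements of `S` in an overgroup of `B` normalized by `S` lie in its core. -/
theorem mem_normalCore {H : Subgroup G} (hBH : σ.B ≤ H) {x : G}
    (hx : ∀ s ∈ (σ.S : Subgroup G), s * x * s⁻¹ ∈ H) : x ∈ H.normalCore := by
  intro g
  obtain ⟨s, hs, hb⟩ := σ.decomp' g
  have h1 := hx s⁻¹ (inv_mem hs)
  rw [show g * x * g⁻¹ = g * s * (s⁻¹ * x * s⁻¹⁻¹) * (g * s)⁻¹ by group]
  exact mul_mem (mul_mem (hBH hb) h1) (inv_mem (hBH hb))

theorem maximal {H : Subgroup G} (hBH : σ.B ≤ H) (hH : H ≠ ⊤) : H = σ.B := by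
  by_contra hne
  obtain ⟨h, hhH, hhB⟩ := SetLike.exists_of_lt (lt_of_le_of_ne hBH (Ne.symm hne))
  obtain ⟨s, hs, hb⟩ := σ.decomp h
  have hsH : s ∈ H := by
    have := mul_mem hhH (inv_mem (hBH hb))
    simpa using this
  have hcore : s ∈ H.normalCore := σ.mem_normalCore hBH fun w hw => by
    rw [σ.scomm hw hs, mul_inv_cancel_right]
    exact hsH
  rw [σ.normalCore_eq_bot hH, mem_bot] at hcore
  subst hcore
  exact hhB (by simpa using hb)

include σ in
theorem centralizer_ne_top {u : G} (hu : u ≠ 1) : centralizer ({u} : Set G) ≠ ⊤ := by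
  intro h
  have huc : u ∈ center G := mem_center_iff.2 fun g =>
    mem_centralizer_singleton_iff.1 (h ▸ mem_top g)
  rcases σ.hsimple.eq_bot_or_eq_top_of_normal (center G) inferInstance with hc | hc
  · exact hu (mem_bot.1 (hc ▸ huc))
  · exact σ.hna fun a b => mem_center_iff.1 (hc ▸ mem_top b : b ∈ center G) a

theorem S_le_centralizer {u : G} (hu : u ∈ (σ.S : Subgroup G)) :
    (σ.S : Subgroup G) ≤ centralizer ({u} : Set G) :=
  fun _ hs => mem_centralizer_singleton_iff.2 (σ.scomm hs hu)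

/-- `N(S)`. -/
abbrev M : Subgroup G := normalizer ((σ.S : Subgroup G) : Set G)

theorem centralizer_le_M {u : G} (hu : u ∈ (σ.S : Subgroup G)) (hu1 : u ≠ 1) :
    centralizer ({u} : Set G) ≤ σ.M := by
  haveI : Fact (Nat.Prime 2) := ⟨Nat.prime_two⟩
  have hSC := σ.S_le_centralizer hu
  set C := centralizer ({u} : Set G) with hCdef
  haveI : Group.IsSolvable ↥C := σ.hC u hu hu1
  set O := Cfsg.pPrimeCore 2 ↥C with hOdef
  set B' := σ.B.subgroupOf C with hB'
  have hOcop : (Nat.card O).Coprime 2 := PLocal.coprime_card_pPrimeCore 2 _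
  have hB'cop : (Nat.card B').Coprime 2 := by
    refine Nat.Coprime.coprime_dvd_left ?_ (Nat.coprime_two_right.2 σ.hBodd)
    rw [hB', ← inf_subgroupOf_right, Nat.card_congr (subgroupOfEquivOfLe inf_le_right).toEquiv]
    exact card_dvd_of_le inf_le_left
  have hdvd : Nat.card ↥(B' ⊔ O) ∣ Nat.card B' := by
    have hcop : (Nat.card ↥(B' ⊔ O)).Coprime (Nat.card σ.S) := by
      obtain ⟨k, hk⟩ := σ.S.2.exists_card_eq
      rw [hk]
      exact ((hB'cop.mul_left hOcop).coprime_dvd_left (PLocal.card_sup_dvd_mul _ _)).pow_right k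
    refine hcop.dvd_of_dvd_mul_right ?_
    have hi : B'.index = Nat.card σ.S := σ.relIndex_eq hSC
    rw [← hi, B'.card_mul_index]
    exact card_subgroup_dvd_card _
  have hOB : O ≤ B' := by
    have := eq_of_le_of_card_ge (H := B') (K := B' ⊔ O) le_sup_left
      (Nat.le_of_dvd Nat.card_pos hdvd)
    exact this ▸ le_sup_right
  have hObot : O = ⊥ := by
    rw [← map_eq_bot_iff_of_injective _ C.subtype_injective, ← le_bot_iff,
      ← σ.normalCore_eq_bot σ.B_ne_top]
    rintro _ ⟨x, hx, rfl⟩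
    refine σ.mem_normalCore le_rfl fun s hs => ?_
    have hn : O.Normal := by rw [hOdef]; infer_instance
    exact hOB (hn.conj_mem x hx ⟨s, hSC hs⟩)
  have hcl := PLocal.centralizer_pCore_le (p := 2) PLocal.isPSolvable_of_isSolvable hObot
  let S' : Sylow 2 ↥C := σ.S.subtype hSC
  have hS'le : (S' : Subgroup ↥C) ≤ Cfsg.pCore 2 ↥C := by
    refine le_trans ?_ hcl
    intro a ha
    rw [mem_centralizer_iff]
    intro b hb
    have hb' : b ∈ (S' : Subgroup ↥C) := PLocal.pCore_le_sylow S' hb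
    exact Subtype.ext (σ.scomm hb' ha)
  have hS'eq : Cfsg.pCore 2 ↥C = (S' : Subgroup ↥C) :=
    le_antisymm (PLocal.pCore_le_sylow S') hS'le
  intro c hc
  rw [mem_normalizer_iff_map_conj_eq]
  refine eq_of_le_of_card_ge ?_ (card_map_of_injective (MulAut.conj c).injective).ge
  rintro _ ⟨s, hs, rfl⟩
  have hn : (Cfsg.pCore 2 ↥C).Normal := inferInstance
  have h1 : (⟨s, hSC hs⟩ : ↥C) ∈ Cfsg.pCore 2 ↥C := hS'eq ▸ hs
  have h2 := hn.conj_mem _ h1 ⟨c, hc⟩
  rw [hS'eq] at h2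
  exact h2

theorem mem_S_of_mem_M {x : G} (hx : x ∈ σ.M) (h2 : IsPGroup 2 (zpowers x)) :
    x ∈ (σ.S : Subgroup G) := by
  have h := σ.S.2.to_sup_of_normal_left' h2 (zpowers_le.2 hx)
  have hsup := σ.S.3 h le_sup_left
  exact hsup ▸ mem_sup_right (mem_zpowers x)

theorem isPGroup_zpowers_of_mem {x : G} (hx : x ∈ (σ.S : Subgroup G)) :
    IsPGroup 2 (zpowers x) :=
  σ.S.2.to_le (zpowers_le.2 hx)

theorem isPGroup_zpowers_of_sq {x : G} (hx : x * x = 1) : IsPGroup 2 (zpowers x) := by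
  haveI : Fact (Nat.Prime 2) := ⟨Nat.prime_two⟩
  rw [IsPGroup.iff_card, Nat.card_zpowers]
  have : orderOf x ∣ 2 ^ 1 := orderOf_dvd_of_pow_eq_one (by rw [pow_one, pow_two, hx])
  obtain ⟨i, -, hi⟩ := (Nat.dvd_prime_pow Nat.prime_two).1 this
  exact ⟨i, hi⟩

theorem mem_S_of_sq {x : G} (hx : x ∈ σ.M) (h2 : x * x = 1) : x ∈ (σ.S : Subgroup G) :=
  σ.mem_S_of_mem_M hx (isPGroup_zpowers_of_sq h2)

/-- `S` is a trivial intersection set. -/
theorem ti {g w : G} (hw : w ∈ (σ.S : Subgroup G)) (hw1 : w ≠ 1)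
    (hgw : g * w * g⁻¹ ∈ (σ.S : Subgroup G)) : g ∈ σ.M := by
  have hw' : g * w * g⁻¹ ≠ 1 := fun h => hw1 (conj_eq_one_iff.1 h)
  rw [mem_normalizer_iff_map_conj_eq]
  refine eq_of_le_of_card_ge ?_ (card_map_of_injective (MulAut.conj g).injective).ge
  rintro _ ⟨s, hs, rfl⟩
  simp only [MonoidHom.coe_coe, MulAut.conj_apply]
  refine σ.mem_S_of_mem_M (σ.centralizer_le_M hgw hw' ?_) ?_
  · rw [mem_centralizer_singleton_iff]
    calc g * s * g⁻¹ * (g * w * g⁻¹) = g * (s * w) * g⁻¹ := by group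
      _ = g * (w * s) * g⁻¹ := by rw [σ.scomm hs hw]
      _ = _ := by group
  · have := (σ.isPGroup_zpowers_of_mem hs).map (MulAut.conj g).toMonoidHom
    rwa [MonoidHom.map_zpowers, MulEquiv.coe_toMonoidHom, MulAut.conj_apply] at this

theorem M_ne_top : σ.M ≠ ⊤ := by
  intro h
  have hn : (σ.S : Subgroup G).Normal := normalizer_eq_top_iff.1 h
  rcases σ.hsimple.eq_bot_or_eq_top_of_normal _ hn with h' | h'
  · obtain ⟨t, ht, -, ht1⟩ := σ.hinv
    exact ht1 (mem_bot.1 (h' ▸ ht))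
  · exact σ.hna fun a b => σ.scomm (h' ▸ mem_top a) (h' ▸ mem_top b)

/-- An involution outside `S` is conjugate to each involution of `S`. -/
theorem conj_outside {t u : G} (ht : t ∈ (σ.S : Subgroup G)) (ht2 : t * t = 1) (ht1 : t ≠ 1)
    (hu2 : u * u = 1) (hu : u ∉ (σ.S : Subgroup G)) : ∃ c : G, c * t * c⁻¹ = u := by
  set d := t * u with hd
  have ht' : t⁻¹ = t := inv_eq_of_mul_eq_one_right ht2
  have hu' : u⁻¹ = u := inv_eq_of_mul_eq_one_right hu2
  have hpow : ∀ n : ℕ, t * d ^ n * t⁻¹ = (d ^ n)⁻¹ := fun n => by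
    have h : t * d * t⁻¹ = d⁻¹ := by
      rw [hd, mul_inv_rev, hu', ht', ← mul_assoc, ht2, one_mul]
    rw [← conj_pow, h, inv_pow]
  rcases Nat.even_or_odd (orderOf d) with ⟨i, hi⟩ | ⟨i, hi⟩
  · exfalso
    set z := d ^ i with hz
    have hz2 : z * z = 1 := by rw [hz, ← pow_add, ← hi, pow_orderOf_eq_one]
    have hz1 : z ≠ 1 := by
      intro h
      have := orderOf_dvd_of_pow_eq_one h
      have h0 := orderOf_pos d
      have := Nat.le_of_dvd (by omega) this
      omega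
    have htz : t * z = z * t := by
      have := hpow i
      rw [← hz, inv_eq_of_mul_eq_one_right hz2] at this
      exact (mul_inv_eq_iff_eq_mul.1 this)
    have hzS : z ∈ (σ.S : Subgroup G) :=
      σ.mem_S_of_sq (σ.centralizer_le_M ht ht1 (mem_centralizer_singleton_iff.2 htz.symm)) hz2
    have hdz : d * z = z * d := (Commute.pow_right (Commute.refl d) i).eq
    have huz : u * z = z * u := by
      have hu_eq : u = t⁻¹ * d := by rw [hd, inv_mul_cancel_left]
      rw [hu_eq, ht', mul_assoc, hdz, ← mul_assoc, htz, mul_assoc]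
    exact hu (σ.mem_S_of_sq (σ.centralizer_le_M hzS hz1
      (mem_centralizer_singleton_iff.2 huz)) hu2)
  · refine ⟨d ^ i, ?_⟩
    have h1 : d ^ i * t * (d ^ i)⁻¹ = d ^ (2 * i) * t := by
      have := hpow i
      rw [← this, ht']
      calc d ^ i * t * (t * d ^ i * t) = d ^ i * (t * t) * d ^ i * t := by group
        _ = _ := by rw [ht2, mul_one, ← pow_add, two_mul]
    have h2 : d * (d ^ (2 * i) * t) = d * u := by
      rw [← mul_assoc, ← pow_succ', ← hi, pow_orderOf_eq_one, one_mul, hd, mul_assoc, hu2, mul_one]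
    rw [h1]
    exact mul_left_cancel h2

/-- All involutions of `S` are conjugate under `B ∩ N(S)`. -/
theorem one_class {t t' : G} (ht : t ∈ (σ.S : Subgroup G)) (ht2 : t * t = 1) (ht1 : t ≠ 1)
    (ht' : t' ∈ (σ.S : Subgroup G)) (ht'2 : t' * t' = 1) (ht'1 : t' ≠ 1) :
    ∃ b ∈ σ.B, b * t * b⁻¹ = t' := by
  obtain ⟨g, hg⟩ : ∃ g : G, g * t * g⁻¹ ∉ (σ.S : Subgroup G) := by
    by_contra h
    push Not at h
    exact σ.M_ne_top (eq_top_iff.2 fun g _ => σ.ti ht ht1 (h g))
  set u := g * t * g⁻¹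
  have hu2 : u * u = 1 := by
    simp only [u]
    rw [show g * t * g⁻¹ * (g * t * g⁻¹) = g * (t * t) * g⁻¹ by group, ht2]
    group
  obtain ⟨c, hc⟩ := σ.conj_outside ht ht2 ht1 hu2 hg
  obtain ⟨c', hc'⟩ := σ.conj_outside ht' ht'2 ht'1 hu2 hg
  set e := c'⁻¹ * c with he
  have het : e * t * e⁻¹ = t' := by
    rw [he, show c'⁻¹ * c * t * (c'⁻¹ * c)⁻¹ = c'⁻¹ * (c * t * c⁻¹) * c' by group, hc, ← hc']
    group
  have heM : e ∈ σ.M := σ.ti ht ht1 (by rw [het]; exact ht')
  obtain ⟨s, hs, hb⟩ := σ.decomp e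
  refine ⟨s⁻¹ * e, hb, ?_⟩
  rw [show s⁻¹ * e * t * (s⁻¹ * e)⁻¹ = s⁻¹ * (e * t * e⁻¹) * s by group, het,
    σ.scomm (inv_mem hs) ht', mul_assoc, inv_mul_cancel, mul_one]

/-- `a` and `w` lie in the same `(B,B)` double coset. -/
def Rel (w a : G) : Prop := ∃ b ∈ σ.B, a⁻¹ * (b * w) ∈ σ.B

theorem rel_symm {w a : G} (h : σ.Rel w a) : σ.Rel a w := by
  obtain ⟨b, hb, hm⟩ := h
  exact ⟨b⁻¹, inv_mem hb, by simpa [mul_assoc] using inv_mem hm⟩

theorem rel_trans {w a c : G} (h1 : σ.Rel w a) (h2 : σ.Rel a c) : σ.Rel w c := by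
  obtain ⟨b, hb, hm⟩ := h1
  obtain ⟨b', hb', hm'⟩ := h2
  refine ⟨b' * b, mul_mem hb' hb, ?_⟩
  have := mul_mem hm' hm
  convert this using 1
  group

/-- The `S`-part of `g`. -/
noncomputable def spart (g : G) : G := (σ.decomp g).choose

theorem spart_mem (g : G) : σ.spart g ∈ (σ.S : Subgroup G) := (σ.decomp g).choose_spec.1

theorem spart_spec (g : G) : (σ.spart g)⁻¹ * g ∈ σ.B := (σ.decomp g).choose_spec.2

section Schur

variable (w : G)

open Classical in
/-- The elements `a` of `S` in the double coset of `w` with `a⁻¹ z` there as well. -/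
noncomputable def pairs (z : G) : Finset G :=
  (Set.toFinite {a : G | a ∈ (σ.S : Subgroup G) ∧ σ.Rel w a ∧ σ.Rel w (a⁻¹ * z)}).toFinset

theorem mem_pairs {z a : G} :
    a ∈ σ.pairs w z ↔ a ∈ (σ.S : Subgroup G) ∧ σ.Rel w a ∧ σ.Rel w (a⁻¹ * z) := by
  simp [pairs]

theorem card_pairs_le {z z' : G} (h : σ.Rel z z') : (σ.pairs w z).card ≤ (σ.pairs w z').card := by
  obtain ⟨b, hb, hβ0⟩ := h
  refine Finset.card_le_card_of_injOn (fun a => σ.spart (b * a)) ?_ ?_
  · intro a ha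
    rw [Finset.mem_coe, mem_pairs] at ha ⊢
    have hβ := σ.spart_spec (b * a)
    refine ⟨σ.spart_mem _, σ.rel_trans ha.2.1 ⟨b, hb, hβ⟩, σ.rel_trans ha.2.2 ⟨_, hβ, ?_⟩⟩
    convert hβ0 using 1
    group
  · intro a ha a' ha' hEq
    rw [Finset.mem_coe, mem_pairs] at ha ha'
    refine σ.uniq ha.1 ha'.1 ?_
    have h1 := σ.spart_spec (b * a)
    have h2 := σ.spart_spec (b * a')
    simp only at hEq
    rw [← hEq] at h2
    convert mul_mem (inv_mem h1) h2 using 1
    group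

theorem card_pairs_eq {z z' : G} (h : σ.Rel z z') : (σ.pairs w z).card = (σ.pairs w z').card :=
  le_antisymm (σ.card_pairs_le w h) (σ.card_pairs_le w (σ.rel_symm h))

open Classical in
theorem pairs_parity {z : G} (hz : z ∈ (σ.S : Subgroup G)) :
    (σ.pairs w z).card % 2 = ((σ.pairs w z).filter fun a => a * a = z).card % 2 := by
  rw [card_mod_two_of_involutive (σ.pairs w z) (fun a => a⁻¹ * z) ?_ ?_]
  · congr 2
    refine Finset.filter_congr fun a _ => ?_
    exact ⟨fun h => by rw [← mul_inv_cancel_left a z, h], fun h => by rw [← h, inv_mul_cancel_left]⟩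
  · intro a ha
    rw [mem_pairs] at ha ⊢
    refine ⟨mul_mem (inv_mem ha.1) hz, ha.2.2, ?_⟩
    rw [mul_inv_rev, inv_inv, mul_assoc, σ.scomm ha.1 hz, inv_mul_cancel_left]
    exact ha.2.1
  · intro a ha
    rw [mem_pairs] at ha
    rw [mul_inv_rev, inv_inv, mul_assoc, σ.scomm ha.1 hz, inv_mul_cancel_left]

/-- The squares of `S`. -/
def squares : Subgroup G where
  carrier := {g | ∃ a ∈ (σ.S : Subgroup G), a * a = g}
  one_mem' := ⟨1, one_mem _, mul_one _⟩
  mul_mem' := by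
    rintro _ _ ⟨a, ha, rfl⟩ ⟨c, hc, rfl⟩
    exact ⟨a * c, mul_mem ha hc, by rw [mul_assoc, ← mul_assoc c, σ.scomm hc ha]; group⟩
  inv_mem' := by
    rintro _ ⟨a, ha, rfl⟩
    exact ⟨a⁻¹, inv_mem ha, by group⟩

theorem exists_not_square : ∃ s ∈ (σ.S : Subgroup G), s ∉ σ.squares := by
  obtain ⟨t, ht, ht2, ht1⟩ := σ.hinv
  let f : ↥(σ.S : Subgroup G) → ↥(σ.S : Subgroup G) := fun a => a * a
  have hni : ¬ Function.Injective f := fun hi => ht1 (by
    have : f ⟨t, ht⟩ = f 1 := Subtype.ext (by simp [f, ht2])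
    exact congrArg Subtype.val (hi this))
  by_contra h
  push Not at h
  refine hni (Finite.injective_iff_surjective.2 fun y => ?_)
  obtain ⟨a, ha, hay⟩ := h y.1 y.2
  exact ⟨⟨a, ha⟩, Subtype.ext hay⟩

open Classical in
/-- The pair counts are even. -/
theorem even_pairs {z : G} (hz : z ∈ (σ.S : Subgroup G)) (hz1 : z ≠ 1) :
    (σ.pairs w z).card % 2 = 0 := by
  by_contra hodd
  set E : Set G := {e | e ∈ (σ.S : Subgroup G) ∧ e ≠ 1 ∧ (σ.pairs w e).card % 2 = 1} with hE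
  have hzE : z ∈ E := ⟨hz, hz1, by omega⟩
  have hclosed : ∀ e ∈ E, ∀ b ∈ σ.B, σ.spart (b * e) ∈ E := fun e he b hb => by
    have hrel : σ.Rel e (σ.spart (b * e)) := ⟨b, hb, σ.spart_spec _⟩
    refine ⟨σ.spart_mem _, fun h => he.2.1 (σ.eq_one_of_mem he.1 ?_), ?_⟩
    · have := σ.spart_spec (b * e)
      rw [h, inv_one, one_mul] at this
      simpa using mul_mem (inv_mem hb) this
    · rw [← σ.card_pairs_eq w hrel]
      exact he.2.2
  have hEsq : E ⊆ σ.squares := fun e he => by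
    have h := σ.pairs_parity w he.1
    rw [he.2.2] at h
    obtain ⟨a, ha⟩ := Finset.card_pos.1 (show 0 < ((σ.pairs w e).filter fun a => a * a = e).card by
      omega)
    rw [Finset.mem_filter, mem_pairs] at ha
    exact ⟨a, ha.1.1, ha.2⟩
  set K := closure E with hK
  have hKsq : K ≤ σ.squares := (closure_le _).2 hEsq
  have key : ∀ k ∈ K, ∀ b ∈ σ.B, ∃ k' ∈ K, k'⁻¹ * (b * k) ∈ σ.B := by
    intro k hk
    have hstep : ∀ e ∈ E, ∀ y : G, (∀ b ∈ σ.B, ∃ k' ∈ K, k'⁻¹ * (b * y) ∈ σ.B) →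
        ∀ b ∈ σ.B, ∃ k' ∈ K, k'⁻¹ * (b * (e * y)) ∈ σ.B := by
      intro e he y hy b hb
      obtain ⟨k', hk', hm⟩ := hy _ (σ.spart_spec (b * e))
      refine ⟨σ.spart (b * e) * k', mul_mem (subset_closure (hclosed e he b hb)) hk', ?_⟩
      convert hm using 1
      group
    induction hk using Subgroup.closure_induction_left with
    | one => exact fun b hb => ⟨1, one_mem _, by simpa using hb⟩
    | mul_left e he y _ ih => exact hstep e he y ih
    | inv_mul_cancel e he y _ ih =>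
      have hpow : ∀ n : ℕ, ∀ b ∈ σ.B, ∃ k' ∈ K, k'⁻¹ * (b * (e ^ n * y)) ∈ σ.B := by
        intro n
        induction n with
        | zero => simpa using ih
        | succ n ihn =>
          rw [pow_succ']
          simp only [mul_assoc e]
          exact hstep e he _ ihn
      have he' : e⁻¹ = e ^ (orderOf e - 1) := by
        refine inv_eq_of_mul_eq_one_right ?_
        rw [← pow_succ', Nat.sub_add_cancel (orderOf_pos e), pow_orderOf_eq_one]
      rw [he']
      exact hpow _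
  set H := closure (E ∪ (σ.B : Set G)) with hH
  have hKB : ∀ g ∈ H, ∃ k ∈ K, k⁻¹ * g ∈ σ.B := by
    intro g hg
    induction hg using Subgroup.closure_induction_left with
    | one => exact ⟨1, one_mem _, by simp⟩
    | mul_left x hx y _ ih =>
      obtain ⟨k, hk, hm⟩ := ih
      rcases hx with hx | hx
      · exact ⟨x * k, mul_mem (subset_closure hx) hk, by simpa [mul_assoc] using hm⟩
      · obtain ⟨k', hk', hm'⟩ := key k hk x hx
        refine ⟨k', hk', ?_⟩
        convert mul_mem hm' hm using 1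
        group
    | inv_mul_cancel x hx y _ ih =>
      obtain ⟨k, hk, hm⟩ := ih
      rcases hx with hx | hx
      · exact ⟨x⁻¹ * k, mul_mem (inv_mem (subset_closure hx)) hk, by simpa [mul_assoc] using hm⟩
      · obtain ⟨k', hk', hm'⟩ := key k hk x⁻¹ (inv_mem hx)
        refine ⟨k', hk', ?_⟩
        convert mul_mem hm' hm using 1
        group
  have hHtop : H ≠ ⊤ := by
    intro h
    obtain ⟨s, hs, hns⟩ := σ.exists_not_square
    obtain ⟨k, hk, hm⟩ := hKB s (h ▸ mem_top s)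
    obtain ⟨a, ha, hak⟩ := hKsq hk
    refine hns ?_
    rw [← σ.uniq (hak ▸ mul_mem ha ha) hs hm]
    exact hKsq hk
  have hBH : σ.B ≤ H := fun b hb => subset_closure (Or.inr hb)
  have hzH : z ∈ H := subset_closure (Or.inl hzE)
  rw [σ.maximal hBH hHtop] at hzH
  exact hz1 (σ.eq_one_of_mem hz hzH)

end Schur

open Classical in
/-- Every nontrivial double coset of `B` contains an involution of `S`. -/
theorem exists_involution_rel {w : G} (hw : w ∈ (σ.S : Subgroup G)) (hw1 : w ≠ 1) :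
    ∃ i ∈ (σ.S : Subgroup G), i * i = 1 ∧ i ≠ 1 ∧ σ.Rel w i := by
  by_contra hcon
  push Not at hcon
  have hfin : Set.Finite {a : G | a ∈ (σ.S : Subgroup G) ∧ σ.Rel w a} := Set.toFinite _
  set Y := hfin.toFinset with hY
  have hmemY : ∀ a, a ∈ Y ↔ a ∈ (σ.S : Subgroup G) ∧ σ.Rel w a := fun a => by simp [hY]
  have hsq : ∀ a ∈ Y, a * a ≠ 1 := by
    intro a ha h
    rw [hmemY] at ha
    by_cases ha1 : a = 1
    · subst ha1
      obtain ⟨b, hb, hm⟩ := ha.2
      rw [inv_one, one_mul] at hm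
      exact hw1 (σ.eq_one_of_mem hw (by simpa using mul_mem (inv_mem hb) hm))
    · exact hcon a ha.1 h ha1 ha.2
  have heven : Even Y.card := by
    rw [Finset.card_eq_sum_card_image (fun a => a * a) Y]
    refine Finset.even_sum _ fun z hz => ?_
    obtain ⟨a, ha, rfl⟩ := Finset.mem_image.1 hz
    have haS := ((hmemY a).1 ha).1
    have hpe := σ.pairs_parity w (mul_mem haS haS)
    rw [σ.even_pairs w (mul_mem haS haS) (hsq a ha)] at hpe
    rw [Nat.even_iff]
    have : Y.filter (fun x => x * x = a * a) =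
        (σ.pairs w (a * a)).filter fun x => x * x = a * a := by
      ext x
      simp only [Finset.mem_filter, hmemY, mem_pairs]
      constructor
      · rintro ⟨⟨h1, h2⟩, h3⟩
        exact ⟨⟨h1, h2, by rw [← h3, inv_mul_cancel_left]; exact h2⟩, h3⟩
      · rintro ⟨⟨h1, h2, -⟩, h3⟩
        exact ⟨⟨h1, h2⟩, h3⟩
    rw [this]
    omega
  -- the double coset is an orbit of `B` of odd length
  have horb : Y.card = Nat.card (MulAction.orbit σ.B (w : G ⧸ σ.B)) := by
    rw [← Nat.card_eq_finsetCard]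
    refine Nat.card_eq_of_bijective (fun a => ⟨((a : G) : G ⧸ σ.B), ?_⟩) ⟨?_, ?_⟩
    · obtain ⟨b, hb, hm⟩ := ((hmemY _).1 a.2).2
      exact ⟨⟨b, hb⟩, (QuotientGroup.eq.2 (by simpa using hm)).symm⟩
    · intro a a' h
      refine Subtype.ext (σ.uniq ((hmemY _).1 a.2).1 ((hmemY _).1 a'.2).1 ?_)
      exact QuotientGroup.eq.1 (congrArg Subtype.val h)
    · rintro ⟨x, ⟨b, hb⟩, rfl⟩
      refine ⟨⟨σ.spart (b * w), (hmemY _).2 ⟨σ.spart_mem _, b, hb, σ.spart_spec _⟩⟩, ?_⟩
      exact Subtype.ext (QuotientGroup.eq.2 (σ.spart_spec _))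
  have hodd : Odd Y.card := by
    refine Odd.of_dvd_nat σ.hBodd ?_
    rw [horb, Nat.card_coe_set_eq, ← MulAction.index_stabilizer]
    exact index_dvd_card _
  exact (Nat.not_even_iff_odd.2 hodd) heven

/-- `G = B ∪ BtB`. -/
theorem mem_double_coset {t g : G} (ht : t ∈ (σ.S : Subgroup G)) (ht2 : t * t = 1) (ht1 : t ≠ 1)
    (hg : g ∉ σ.B) : ∃ b ∈ σ.B, (b * t)⁻¹ * g ∈ σ.B := by
  set w := σ.spart g
  have hw1 : w ≠ 1 := fun h => hg (by
    have := σ.spart_spec g
    rw [show σ.spart g = w from rfl, h, inv_one, one_mul] at this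
    exact this)
  obtain ⟨i, hi, hi2, hi1, hrel⟩ := σ.exists_involution_rel (σ.spart_mem g) hw1
  obtain ⟨b0, hb0, hbt⟩ := σ.one_class ht ht2 ht1 hi hi2 hi1
  have hgrel : σ.Rel g w := ⟨1, one_mem _, by rw [one_mul]; exact σ.spart_spec g⟩
  have : σ.Rel t g := σ.rel_trans ⟨b0, hb0, by
    rw [← hbt, show (b0 * t * b0⁻¹)⁻¹ * (b0 * t) = b0 by group]; exact hb0⟩
    (σ.rel_symm (σ.rel_trans hgrel hrel))
  obtain ⟨b, hb, hm⟩ := this
  exact ⟨b, hb, by simpa [mul_assoc] using inv_mem hm⟩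

end Setup

end CfsgLib.AGroups
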