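/-
Refutation of the configuration `Setup`: fixed points of inverted subgroups and the final count.
-/
import Cfsg.Agent.AGroups.Simple
import Cfsg.Agent.Coprime.Generation
import Cfsg.Agent.Transfer.Alperin
import Mathlib.GroupTheory.Transfer

set_option autoImplicit false

namespace CfsgLib.AGroups

open Subgroup

namespace Setup

variable {G : Type*} [Group G] [Finite G] (σ : Setup G) (t : G)

/-- The stabilizer in `B` of the coset `tB`. -/
def D : Subgroup G := σ.B ⊓ σ.B.comap (MulAut.conj t).toMonoidHom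

variable {t}

theorem mem_D {d : G} : d ∈ σ.D t ↔ d ∈ σ.B ∧ t * d * t⁻¹ ∈ σ.B := Iff.rfl

theorem eq_inv (ht2 : t * t = 1) : t⁻¹ = t := inv_eq_of_mul_eq_one_right ht2

theorem not_mem_B (ht : t ∈ (σ.S : Subgroup G)) (ht1 : t ≠ 1) : t ∉ σ.B :=
  fun h => ht1 (σ.eq_one_of_mem ht h)

theorem smul_base (g : G) :
    g • ((1 : G) : G ⧸ σ.B) = ((1 : G) : G ⧸ σ.B) ↔ g ∈ σ.B := by
  rw [MulAction.Quotient.smul_coe, smul_eq_mul, mul_one, eq_comm, QuotientGroup.eq]
  simp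

theorem smul_t (ht2 : t * t = 1) (g : G) :
    g • (t : G ⧸ σ.B) = (t : G ⧸ σ.B) ↔ t * g * t⁻¹ ∈ σ.B := by
  rw [MulAction.Quotient.smul_coe, smul_eq_mul, eq_comm, QuotientGroup.eq, eq_inv ht2]
  rw [mul_assoc]

theorem base_ne_t (ht : t ∈ (σ.S : Subgroup G)) (ht1 : t ≠ 1) :
    ((1 : G) : G ⧸ σ.B) ≠ (t : G ⧸ σ.B) := fun h => σ.not_mem_B ht ht1 (by
  simpa using QuotientGroup.eq.1 h)

/-- `G` is doubly transitive on the cosets of `B`. -/
theorem exists_two_trans (ht : t ∈ (σ.S : Subgroup G)) (ht2 : t * t = 1) (ht1 : t ≠ 1)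
    {α β : G ⧸ σ.B} (hne : α ≠ β) :
    ∃ g : G, g • α = ((1 : G) : G ⧸ σ.B) ∧ g • β = (t : G ⧸ σ.B) := by
  induction α using QuotientGroup.induction_on with | H a => ?_
  induction β using QuotientGroup.induction_on with | H c => ?_
  have hac : a⁻¹ * c ∉ σ.B := fun h => hne (QuotientGroup.eq.2 h)
  obtain ⟨b, hb, hm⟩ := σ.mem_double_coset ht ht2 ht1 hac
  refine ⟨b⁻¹ * a⁻¹, ?_, ?_⟩
  · rw [MulAction.Quotient.smul_coe, smul_eq_mul, QuotientGroup.eq]
    simpa [mul_assoc] using hb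
  · rw [MulAction.Quotient.smul_coe, smul_eq_mul, eq_comm, QuotientGroup.eq]
    simpa [mul_assoc] using hm

theorem not_fixed (ht : t ∈ (σ.S : Subgroup G)) (ht1 : t ≠ 1) (α : G ⧸ σ.B) : t • α ≠ α := by
  induction α using QuotientGroup.induction_on with | H a => ?_
  rw [MulAction.Quotient.smul_coe, smul_eq_mul]
  intro h
  rw [QuotientGroup.eq] at h
  obtain ⟨s, hs, hb⟩ := σ.decomp a
  have h2 : s⁻¹ * t⁻¹ * s ∈ σ.B := by
    convert mul_mem (mul_mem hb h) (inv_mem hb) using 1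
    group
  rw [σ.scomm (inv_mem hs) (inv_mem ht), mul_assoc, inv_mul_cancel, mul_one] at h2
  exact σ.not_mem_B ht ht1 (by simpa using inv_mem h2)

/-- An element of `B` inverted by `t` does not normalize `S`. -/
theorem not_mem_M (ht : t ∈ (σ.S : Subgroup G)) (ht2 : t * t = 1) {y : G} (hy : y ∈ σ.B)
    (hy1 : y ≠ 1) (hinv : t * y * t⁻¹ = y⁻¹) : y ∉ σ.M := by
  intro hM
  have h1 : y * t * y⁻¹ ∈ (σ.S : Subgroup G) := (mem_normalizer_iff.1 hM t).1 ht
  have h2 : y * y ∈ (σ.S : Subgroup G) := by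
    have h3 : t * y⁻¹ * t⁻¹ = y := by rw [← conj_inv, hinv, inv_inv]
    have hyy : y * y = y * t * y⁻¹ * t⁻¹ :=
      (congrArg (y * ·) h3.symm).trans (by group)
    rw [hyy]
    exact mul_mem h1 (inv_mem ht)
  have h4 : y ^ 2 = 1 := by rw [pow_two]; exact σ.eq_one_of_mem h2 (mul_mem hy hy)
  refine hy1 (orderOf_eq_one_iff.1 ?_)
  have hodd : Odd (orderOf y) := σ.hBodd.of_dvd_nat (Subgroup.orderOf_dvd_natCard _ hy)
  exact Nat.eq_one_of_dvd_coprimes (Nat.coprime_two_left.2 hodd)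
    (orderOf_dvd_of_pow_eq_one h4) dvd_rfl

/-- A `2`-subgroup containing `t` lies in `S`. -/
theorem two_le_S (ht : t ∈ (σ.S : Subgroup G)) (ht1 : t ≠ 1) {U : Subgroup G}
    (hU : IsPGroup 2 U) (htU : t ∈ U) : U ≤ (σ.S : Subgroup G) := fun u hu => by
  haveI : Fact (Nat.Prime 2) := ⟨Nat.prime_two⟩
  exact σ.mem_S_of_mem_M (σ.centralizer_le_M ht ht1
    (mem_centralizer_singleton_iff.2 (σ.hA.comm hU hu htU))) (hU.to_le (zpowers_le.2 hu))

open Classical in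
/-- A subgroup of `D` normalized by `t`, with controlled fusion and with an inverted element,
fixes just two cosets of `B`. -/
theorem fix_two (ht : t ∈ (σ.S : Subgroup G)) (ht2 : t * t = 1) (ht1 : t ≠ 1) {Y : Subgroup G}
    (hYD : Y ≤ σ.D t) (htY : ∀ y ∈ Y, t * y * t⁻¹ ∈ Y) {y : G} (hy : y ∈ Y) (hy1 : y ≠ 1)
    (hinv : t * y * t⁻¹ = y⁻¹)
    (hfus : ∀ g : G, (∀ z ∈ Y, g * z * g⁻¹ ∈ σ.D t) →
      ∃ d ∈ σ.D t, ∀ z ∈ Y, d⁻¹ * (g * z * g⁻¹) * d ∈ Y)
    (α : G ⧸ σ.B) (hα : ∀ z ∈ Y, z • α = α) :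
    α = ((1 : G) : G ⧸ σ.B) ∨ α = (t : G ⧸ σ.B) := by
  haveI : Fact (Nat.Prime 2) := ⟨Nat.prime_two⟩
  by_contra hcon
  push Not at hcon
  set N := normalizer (Y : Set G) with hN
  let Fix : Set (G ⧸ σ.B) := {β | ∀ z ∈ Y, z • β = β}
  have hmemN : ∀ n : G, (∀ z ∈ Y, n * z * n⁻¹ ∈ Y) → n ∈ N := by
    intro n hn
    rw [hN, mem_normalizer_iff_map_conj_eq]
    refine eq_of_le_of_card_ge ?_ (card_map_of_injective (MulAut.conj n).injective).ge
    rintro _ ⟨z, hz, rfl⟩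
    exact hn z hz
  have hFixN : ∀ n ∈ N, ∀ β ∈ Fix, n • β ∈ Fix := by
    intro n hn β hβ z hz
    have := hβ (n⁻¹ * z * n) ((mem_normalizer_iff''.1 hn z).1 hz)
    rw [mul_smul, mul_smul, inv_smul_eq_iff] at this
    exact this
  have hbase : ((1 : G) : G ⧸ σ.B) ∈ Fix := fun z hz => (σ.smul_base z).2 (hYD hz).1
  have htfix : (t : G ⧸ σ.B) ∈ Fix := fun z hz => (σ.smul_t ht2 z).2 (hYD hz).2
  -- double transitivity of `N(Y)` on the fixed cosets
  have htrans : ∀ β ∈ Fix, ∀ γ ∈ Fix, β ≠ γ →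
      ∃ n ∈ N, n • β = ((1 : G) : G ⧸ σ.B) ∧ n • γ = (t : G ⧸ σ.B) := by
    intro β hβ γ hγ hne
    obtain ⟨g, hgβ, hgγ⟩ := σ.exists_two_trans ht ht2 ht1 hne
    have hgY : ∀ z ∈ Y, g * z * g⁻¹ ∈ σ.D t := fun z hz => by
      refine ⟨(σ.smul_base _).1 ?_, (σ.smul_t ht2 _).1 ?_⟩
      · rw [mul_smul, ← hgβ, inv_smul_smul, mul_smul, hβ z hz]
      · rw [mul_smul, ← hgγ, inv_smul_smul, mul_smul, hγ z hz]
    obtain ⟨d, hd, hdY⟩ := hfus g hgY
    refine ⟨d⁻¹ * g, hmemN _ fun z hz => ?_, ?_, ?_⟩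
    · convert hdY z hz using 1
      group
    · rw [mul_smul, hgβ, inv_smul_eq_iff]
      exact ((σ.smul_base d).2 hd.1).symm
    · rw [mul_smul, hgγ, inv_smul_eq_iff]
      exact ((σ.smul_t ht2 d).2 hd.2).symm
  have htN : t ∈ N := hmemN t htY
  obtain ⟨U, hU⟩ : ∃ U : Sylow 2 ↥N, zpowers (⟨t, htN⟩ : ↥N) ≤ U :=
    (isPGroup_zpowers_of_sq (Subtype.ext ht2)).exists_le_sylow
  set U₀ := (U : Subgroup ↥N).map N.subtype with hU₀
  have htU : t ∈ U₀ := ⟨⟨t, htN⟩, hU (mem_zpowers _), rfl⟩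
  have hU₀S : U₀ ≤ (σ.S : Subgroup G) := σ.two_le_S ht ht1 (U.2.map _) htU
  by_cases hcyc : IsCyclic U₀
  · haveI hUcyc : IsCyclic ↥(U : Subgroup ↥N) :=
      isCyclic_of_surjective _ ((U : Subgroup ↥N).equivMapOfInjective N.subtype
        N.subtype_injective).symm.surjective
    have heven : 2 ∣ Nat.card ↥N := by
      have : orderOf (⟨t, htN⟩ : ↥N) = 2 :=
        orderOf_eq_prime (Subtype.ext (by simpa [pow_two] using ht2))
          (fun h => ht1 (congrArg Subtype.val h))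
      exact this ▸ _root_.orderOf_dvd_natCard _
    have hmin : (Nat.card ↥N).minFac = 2 := (Nat.minFac_eq_two_iff _).2 heven
    set O := (MonoidHom.transferSylow U (hUcyc.normalizer_le_centralizer hmin)).ker with hO
    have hcompl : O.IsComplement' U := IsCyclic.isComplement' hmin hUcyc
    have hOodd : Odd (Nat.card O) := by
      rw [← Nat.not_even_iff_odd, even_iff_two_dvd]
      exact MonoidHom.not_dvd_card_ker_transferSylow U _
    -- an even number of fixed cosets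
    have hFeven : Fix.ncard % 2 = 0 := by
      rw [Set.ncard_eq_toFinset_card Fix (Set.toFinite _),
        card_mod_two_of_involutive _ (fun β => t • β)]
      · rw [Finset.filter_false_of_mem fun β _ => σ.not_fixed ht ht1 β]
        rfl
      · intro β hβ
        rw [Set.Finite.mem_toFinset] at hβ ⊢
        exact hFixN t htN β hβ
      · intro β _
        rw [← mul_smul, ht2, one_smul]
    have horb : ∀ β ∈ Fix, ∃ γ ∈ Fix, γ ∉ MulAction.orbit ↥O β := by
      intro β hβ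
      by_contra h
      push Not at h
      have heq : MulAction.orbit ↥O β = Fix := by
        refine Set.Subset.antisymm ?_ fun γ hγ => h γ hγ
        rintro _ ⟨o, rfl⟩
        exact hFixN _ o.1.2 β hβ
      have hdvd : Fix.ncard ∣ Nat.card O := by
        rw [← heq, ← MulAction.index_stabilizer]
        exact index_dvd_card _
      have := Nat.odd_iff.1 (hOodd.of_dvd_nat hdvd)
      omega
    -- the odd normal subgroup acts trivially
    have hOfix : ∀ o : ↥O, ∀ β ∈ Fix, (o : ↥N) • β = β := by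
      intro o β hβ
      by_contra hne
      obtain ⟨γ, hγ, hγorb⟩ := horb β hβ
      have hβγ : β ≠ γ := fun h => hγorb (h ▸ MulAction.mem_orbit_self β)
      obtain ⟨n1, hn1, h11, h12⟩ := htrans β hβ ((o : ↥N) • β) (hFixN _ o.1.2 β hβ) (Ne.symm hne)
      obtain ⟨n2, hn2, h21, h22⟩ := htrans β hβ γ hγ hβγ
      let n : ↥N := ⟨n2⁻¹ * n1, mul_mem (inv_mem hn2) hn1⟩
      have hnβ : n • β = β := by
        change (n2⁻¹ * n1) • β = β
        rw [mul_smul, h11, ← h21, inv_smul_smul]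
      have hnγ : n • ((o : ↥N) • β) = γ := by
        change (n2⁻¹ * n1) • ((o : ↥N) • β) = γ
        rw [mul_smul, h12, ← h22, inv_smul_smul]
      refine hγorb ⟨⟨n * o * n⁻¹, (inferInstance : O.Normal).conj_mem _ o.2 n⟩, ?_⟩
      change (n * (o : ↥N) * n⁻¹) • β = γ
      rw [mul_smul, mul_smul, show n⁻¹ • β = β from inv_smul_eq_iff.2 hnβ.symm, hnγ]
    have hne : ((1 : G) : G ⧸ σ.B) ≠ α := Ne.symm hcon.1
    obtain ⟨n2, hn2, h21, h22⟩ := htrans _ hbase α hα hne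
    obtain ⟨⟨⟨o, ho⟩, ⟨u, hu⟩⟩, hn⟩ := hcompl.2 (⟨n2⁻¹, inv_mem hn2⟩ : ↥N)
    simp only at hn
    have hact : ∀ β ∈ Fix, (n2⁻¹ : G) • β = (u : G) • β := by
      intro β hβ
      have h : (o * u) • β = (⟨n2⁻¹, inv_mem hn2⟩ : ↥N) • β := by rw [hn]
      rw [mul_smul, show o • (u • β) = u • β from hOfix ⟨o, ho⟩ _ (hFixN _ u.2 β hβ)] at h
      exact h.symm
    have huB : (u : G) • ((1 : G) : G ⧸ σ.B) = ((1 : G) : G ⧸ σ.B) := by
      rw [← hact _ hbase, inv_smul_eq_iff, h21]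
    have hutc : (u : G) * t = t * (u : G) := σ.scomm (hU₀S ⟨u, hu, rfl⟩) ht
    have hut : (u : G) • (t : G ⧸ σ.B) = (t : G ⧸ σ.B) := by
      have : (t : G ⧸ σ.B) = t • ((1 : G) : G ⧸ σ.B) := by
        rw [MulAction.Quotient.smul_coe, smul_eq_mul, mul_one]
      rw [this, ← mul_smul, hutc, mul_smul, huB]
    have := hact _ htfix
    rw [hut, ← h22, inv_smul_smul] at this
    exact hcon.2 (this.trans h22)
  · refine σ.not_mem_M ht ht2 (hYD hy).1 hy1 hinv ?_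
    haveI : IsMulCommutative U₀ :=
      ⟨⟨fun a b => Subtype.ext (σ.scomm (hU₀S a.2) (hU₀S b.2))⟩⟩
    refine Coprime.le_of_forall_inf_centralizer_le hcyc ?_ ?_ ?_ hy
    · rintro _ ⟨u, -, rfl⟩
      exact u.2
    · obtain ⟨k, hk⟩ := (U.2.map N.subtype).exists_card_eq
      rw [show Nat.card U₀ = 2 ^ k from hk]
      exact (Nat.coprime_two_left.2 (σ.hBodd.of_dvd_nat
        (card_dvd_of_le (fun z hz => (hYD hz).1)))).pow_left k
    · exact fun a ha ha1 => inf_le_right.trans (σ.centralizer_le_M (hU₀S ha) ha1)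

theorem card_B (ht : t ∈ (σ.S : Subgroup G)) (ht2 : t * t = 1) (ht1 : t ≠ 1) :
    (Nat.card σ.S - 1) * Nat.card (σ.D t) = Nat.card σ.B := by
  have horb : MulAction.orbit σ.B (t : G ⧸ σ.B) = {((1 : G) : G ⧸ σ.B)}ᶜ := by
    ext β
    rw [Set.mem_compl_singleton_iff]
    constructor
    · rintro ⟨⟨b, hb⟩, rfl⟩ h
      change b • (t : G ⧸ σ.B) = _ at h
      rw [eq_comm, ← inv_smul_eq_iff, (σ.smul_base _).2 (inv_mem hb)] at h
      exact σ.base_ne_t ht ht1 h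
    · intro hβ
      obtain ⟨g, hg1, hg2⟩ := σ.exists_two_trans ht ht2 ht1 (Ne.symm hβ)
      refine ⟨⟨g⁻¹, inv_mem ((σ.smul_base g).1 hg1)⟩, ?_⟩
      change g⁻¹ • (t : G ⧸ σ.B) = β
      rw [← hg2, inv_smul_smul]
  have hst : MulAction.stabilizer σ.B (t : G ⧸ σ.B) = (σ.D t).subgroupOf σ.B := by
    ext ⟨b, hb⟩
    rw [MulAction.mem_stabilizer_iff, mem_subgroupOf, mem_D]
    exact ⟨fun h => ⟨hb, (σ.smul_t ht2 b).1 h⟩, fun h => (σ.smul_t ht2 b).2 h.2⟩
  have h1 := MulAction.index_stabilizer σ.B (t : G ⧸ σ.B)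
  rw [horb, Set.ncard_compl, Set.ncard_singleton, hst] at h1
  have hq : Nat.card (G ⧸ σ.B) = Nat.card σ.S := σ.hidx
  rw [hq] at h1
  have h2 := ((σ.D t).subgroupOf σ.B).card_mul_index
  have hDB : σ.D t ≤ σ.B := inf_le_left
  rw [h1, Nat.card_congr (subgroupOfEquivOfLe hDB).toEquiv] at h2
  rw [mul_comm]
  exact h2

theorem card_centralizer (ht : t ∈ (σ.S : Subgroup G)) :
    Nat.card σ.S * Nat.card ↥(σ.B ⊓ centralizer ({t} : Set G)) =
      Nat.card (centralizer ({t} : Set G)) := by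
  have h1 : (σ.B ⊓ centralizer ({t} : Set G)).relIndex (centralizer ({t} : Set G)) =
      Nat.card σ.S := by
    rw [inf_relIndex_right, σ.relIndex_eq (σ.S_le_centralizer ht)]
  rw [← h1, mul_comm]
  exact PLocal.card_mul_relIndex inf_le_right

theorem inf_centralizer_le_D (ht2 : t * t = 1) :
    σ.B ⊓ centralizer ({t} : Set G) ≤ σ.D t := by
  rintro b ⟨hb, hbt⟩
  refine ⟨hb, ?_⟩
  change t * b * t⁻¹ ∈ σ.B
  rw [← mem_centralizer_singleton_iff.1 hbt, mul_inv_cancel_right]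
  exact hb

/-- Involutions of `S` with the identity. -/
def omega : Subgroup G where
  carrier := {x | x ∈ (σ.S : Subgroup G) ∧ x * x = 1}
  one_mem' := ⟨one_mem _, mul_one _⟩
  mul_mem' := by
    rintro a c ⟨ha, ha2⟩ ⟨hc, hc2⟩
    refine ⟨mul_mem ha hc, ?_⟩
    rw [mul_assoc, ← mul_assoc c, σ.scomm hc ha, mul_assoc a, hc2, mul_one, ha2]
  inv_mem' := by
    rintro a ⟨ha, ha2⟩
    exact ⟨inv_mem ha, by rw [← mul_inv_rev, ha2, inv_one]⟩

theorem card_M (ht : t ∈ (σ.S : Subgroup G)) (ht2 : t * t = 1) (ht1 : t ≠ 1) :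
    (Nat.card σ.omega - 1) * Nat.card (centralizer ({t} : Set G)) = Nat.card σ.M := by
  have htM : t ∈ σ.M := le_normalizer ht
  have hCM := σ.centralizer_le_M ht ht1
  have h1 : Nat.card (MulAction.orbit (ConjAct ↥σ.M) (⟨t, htM⟩ : ↥σ.M)) =
      Nat.card σ.omega - 1 := by
    have h2 : ((σ.omega : Set G) \ {1}).ncard = Nat.card σ.omega - 1 := by
      rw [Set.ncard_diff_singleton_of_mem (one_mem σ.omega), ← Nat.card_coe_set_eq]
      rfl
    rw [Nat.card_coe_set_eq, ← h2, ← Set.ncard_image_of_injective _ (Subtype.val_injective)]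
    congr 1
    ext x
    constructor
    · rintro ⟨_, ⟨m, rfl⟩, rfl⟩
      obtain ⟨m, rfl⟩ := ConjAct.toConjAct.surjective m
      simp only [ConjAct.smul_def, ConjAct.ofConjAct_toConjAct, Subgroup.coe_mul,
        Subgroup.coe_inv, Set.mem_sdiff, SetLike.mem_coe, Set.mem_singleton_iff]
      refine ⟨⟨(mem_normalizer_iff.1 m.2 t).1 ht, ?_⟩, fun h => ht1 (conj_eq_one_iff.1 h)⟩
      rw [show (m : G) * t * (m : G)⁻¹ * (m * t * (m : G)⁻¹) = m * (t * t) * (m : G)⁻¹ by group,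
        ht2]
      group
    · rintro ⟨⟨hxS, hx2⟩, hx1⟩
      obtain ⟨b, hb, hbt⟩ := σ.one_class ht ht2 ht1 hxS hx2 hx1
      have hbM : b ∈ σ.M := σ.ti ht ht1 (by rw [hbt]; exact hxS)
      refine ⟨_, ⟨ConjAct.toConjAct ⟨b, hbM⟩, rfl⟩, ?_⟩
      simpa [ConjAct.smul_def] using hbt
  have h3 := (MulAction.stabilizer (ConjAct ↥σ.M) (⟨t, htM⟩ : ↥σ.M)).card_mul_index
  rw [MulAction.index_stabilizer, ← Nat.card_coe_set_eq, h1, mul_comm] at h3
  rw [Nat.card_congr ConjAct.ofConjAct.toEquiv] at h3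
  rw [← h3, ← Subgroup.nat_card_centralizer_nat_card_stabilizer]
  congr 1
  have hcen : centralizer ({(⟨t, htM⟩ : ↥σ.M)} : Set ↥σ.M) =
      (centralizer ({t} : Set G)).subgroupOf σ.M := by
    ext m
    simp [mem_subgroupOf, mem_centralizer_singleton_iff, Subtype.ext_iff]
  rw [hcen, Nat.card_congr (subgroupOfEquivOfLe hCM).toEquiv]

theorem index_M_mod (ht : t ∈ (σ.S : Subgroup G)) (ht1 : t ≠ 1) :
    Nat.card σ.S ∣ σ.M.index - 1 := by
  have := card_dvd_of_semiregular (H := ↥(σ.S : Subgroup G)) (α := G ⧸ σ.M)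
    {((1 : G) : G ⧸ σ.M)} ?_ ?_
  · rw [Set.ncard_singleton] at this
    exact this
  · rintro _ rfl s
    change ((s : G) • ((1 : G) : G ⧸ σ.M)) = _
    rw [MulAction.Quotient.smul_coe, smul_eq_mul, mul_one, eq_comm, QuotientGroup.eq]
    have hm : (s : G) ∈ σ.M := le_normalizer s.2
    simpa using hm
  · intro α hα s hs
    induction α using QuotientGroup.induction_on with | H a => ?_
    change ((s : G) • (a : G ⧸ σ.M)) = _ at hs
    rw [MulAction.Quotient.smul_coe, smul_eq_mul, eq_comm, QuotientGroup.eq] at hs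
    by_contra hs1
    refine hα ?_
    rw [Set.mem_singleton_iff, QuotientGroup.eq]
    have hsG : (s : G) ≠ 1 := fun h => hs1 (Subtype.ext h)
    have hmem : a⁻¹ * (s : G) * a⁻¹⁻¹ ∈ (σ.S : Subgroup G) := by
      refine σ.mem_S_of_mem_M (by simpa [mul_assoc] using hs) ?_
      have := (σ.isPGroup_zpowers_of_mem s.2).map (MulAut.conj a⁻¹).toMonoidHom
      rwa [MonoidHom.map_zpowers, MulEquiv.coe_toMonoidHom, MulAut.conj_apply] at this
    have := σ.ti s.2 hsG hmem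
    simpa using this

open Classical in
/-- For a prime `s` and a `t`-invariant Sylow `s`-subgroup `P` of `D`, the index of `C_P(t)` in `P`
divides `|S| - 2`. -/
theorem index_dvd_sub_two (ht : t ∈ (σ.S : Subgroup G)) (ht2 : t * t = 1) (ht1 : t ≠ 1)
    {s : ℕ} [Fact s.Prime] (P : Sylow s ↥(σ.D t))
    (hPt : ∀ x ∈ (P : Subgroup ↥(σ.D t)).map (σ.D t).subtype,
      t * x * t⁻¹ ∈ (P : Subgroup ↥(σ.D t)).map (σ.D t).subtype) :
    (centralizer ({t} : Set G)).relIndex ((P : Subgroup ↥(σ.D t)).map (σ.D t).subtype) ∣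
      Nat.card σ.S - 2 := by
  set P₀ := (P : Subgroup ↥(σ.D t)).map (σ.D t).subtype with hP₀
  have hP₀D : P₀ ≤ σ.D t := map_subtype_le _
  have hP₀p : IsPGroup s P₀ := P.2.map _
  by_cases hcent : P₀ ≤ centralizer ({t} : Set G)
  · rw [relIndex_eq_one.2 hcent]
    exact one_dvd _
  obtain ⟨p, hp, hpt⟩ := SetLike.not_le_iff_exists.1 hcent
  let φ : ↥P₀ →* ↥P₀ :=
    { toFun := fun x => ⟨(x : G)⁻¹ * (t * x * t⁻¹), mul_mem (inv_mem x.2) (hPt _ x.2)⟩
      map_one' := Subtype.ext (by simp)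
      map_mul' := fun x y => by
        refine Subtype.ext ?_
        simp only [Subgroup.coe_mul]
        calc ((x : G) * y)⁻¹ * (t * ((x : G) * y) * t⁻¹)
            = (y : G)⁻¹ * ((x : G)⁻¹ * (t * x * t⁻¹)) * (t * y * t⁻¹) := by group
          _ = ((x : G)⁻¹ * (t * x * t⁻¹)) * (y : G)⁻¹ * (t * y * t⁻¹) := by
              rw [σ.hA.comm hP₀p (inv_mem y.2) (mul_mem (inv_mem x.2) (hPt _ x.2))]
          _ = _ := by group }
  let P₁ : Subgroup G :=
    { carrier := {x | x ∈ P₀ ∧ t * x * t⁻¹ = x⁻¹}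
      one_mem' := ⟨one_mem _, by simp⟩
      mul_mem' := by
        rintro a c ⟨ha, ha'⟩ ⟨hc, hc'⟩
        refine ⟨mul_mem ha hc, ?_⟩
        rw [← conj_mul, ha', hc', mul_inv_rev,
          σ.hA.comm hP₀p (inv_mem ha) (inv_mem hc)]
      inv_mem' := by
        rintro a ⟨ha, ha'⟩
        exact ⟨inv_mem ha, by rw [← conj_inv, ha']⟩ }
  have hmemP₁ : ∀ x, x ∈ P₁ ↔ x ∈ P₀ ∧ t * x * t⁻¹ = x⁻¹ := fun _ => Iff.rfl
  have hφ : ∀ x, (φ x : G) ∈ P₁ := fun x => by
    refine (hmemP₁ _).2 ⟨(φ x).2, ?_⟩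
    change t * ((x : G)⁻¹ * (t * x * t⁻¹)) * t⁻¹ = ((x : G)⁻¹ * (t * x * t⁻¹))⁻¹
    rw [eq_inv ht2]
    calc t * ((x : G)⁻¹ * (t * x * t)) * t = t * (x : G)⁻¹ * t * x * (t * t) := by group
      _ = t⁻¹ * (x : G)⁻¹ * t⁻¹ * x := by rw [ht2, mul_one, eq_inv ht2]
      _ = _ := by group
  have hker : φ.ker = (centralizer ({t} : Set G)).subgroupOf P₀ := by
    ext x
    rw [MonoidHom.mem_ker, mem_subgroupOf, mem_centralizer_singleton_iff, Subtype.ext_iff]
    change (x : G)⁻¹ * (t * x * t⁻¹) = 1 ↔ _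
    rw [inv_mul_eq_one, eq_comm, mul_inv_eq_iff_eq_mul, eq_comm]
  have hdvd1 : (centralizer ({t} : Set G)).relIndex P₀ ∣ Nat.card P₁ := by
    rw [relIndex, ← hker, index_ker, Nat.card_congr
      ((φ.range).equivMapOfInjective P₀.subtype P₀.subtype_injective).toEquiv]
    refine card_dvd_of_le ?_
    rintro _ ⟨_, ⟨x, rfl⟩, rfl⟩
    exact hφ x
  obtain ⟨y₀, hy₀, hy₀1⟩ : ∃ y ∈ P₁, y ≠ 1 := by
    refine ⟨_, hφ ⟨p, hp⟩, fun h => hpt ?_⟩
    have hk : (⟨p, hp⟩ : ↥P₀) ∈ φ.ker := MonoidHom.mem_ker.2 (Subtype.ext h)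
    rw [hker] at hk
    exact hk
  have hfusP : ∀ g : G, (∀ z ∈ P₀, g * z * g⁻¹ ∈ σ.D t) →
      ∃ d ∈ σ.D t, ∀ z ∈ P₀, d⁻¹ * (g * z * g⁻¹) * d ∈ P₀ := by
    intro g hg
    set R := (P₀.map (MulAut.conj g).toMonoidHom).subgroupOf (σ.D t)
    have hR : IsPGroup s R := (hP₀p.map _).comap_of_injective _ (σ.D t).subtype_injective
    obtain ⟨Q, hQ⟩ := hR.exists_le_sylow
    obtain ⟨d, hd⟩ := MulAction.exists_smul_eq ↥(σ.D t) Q P
    refine ⟨((d : G))⁻¹, inv_mem d.2, fun z hz => ?_⟩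
    have h1 : (⟨g * z * g⁻¹, hg z hz⟩ : ↥(σ.D t)) ∈ (Q : Subgroup ↥(σ.D t)) :=
      hQ (mem_subgroupOf.2 ⟨z, hz, rfl⟩)
    refine ⟨d * ⟨g * z * g⁻¹, hg z hz⟩ * d⁻¹, ?_, by simp [mul_assoc]⟩
    rw [← hd, Sylow.coe_subgroup_smul]
    exact Subgroup.smul_mem_pointwise_smul _ _ _ h1
  have hFixP : ∀ α : G ⧸ σ.B, (∀ z ∈ P₀, z • α = α) →
      α = ((1 : G) : G ⧸ σ.B) ∨ α = (t : G ⧸ σ.B) :=
    σ.fix_two ht ht2 ht1 hP₀D hPt ((hmemP₁ _).1 hy₀).1 hy₀1 ((hmemP₁ _).1 hy₀).2 hfusP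
  -- an element normalizing `P₀` fixes or interchanges the two cosets
  have hswap : ∀ n ∈ normalizer (P₀ : Set G), n ∈ σ.D t ∨
      (n • ((1 : G) : G ⧸ σ.B) = (t : G ⧸ σ.B) ∧ n • (t : G ⧸ σ.B) = ((1 : G) : G ⧸ σ.B)) := by
    intro n hn
    have hpres : ∀ β : G ⧸ σ.B, (∀ z ∈ P₀, z • β = β) → ∀ z ∈ P₀, z • n • β = n • β := by
      intro β hβ z hz
      have := hβ (n⁻¹ * z * n) ((mem_normalizer_iff''.1 hn z).1 hz)
      rwa [mul_smul, mul_smul, inv_smul_eq_iff] at this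
    have h1 := hFixP _ (hpres ((1 : G) : G ⧸ σ.B) fun z hz => (σ.smul_base z).2 (hP₀D hz).1)
    have h2 := hFixP _ (hpres (t : G ⧸ σ.B) fun z hz => (σ.smul_t ht2 z).2 (hP₀D hz).2)
    have hne : n • ((1 : G) : G ⧸ σ.B) ≠ n • (t : G ⧸ σ.B) :=
      fun h => σ.base_ne_t ht ht1 (smul_left_cancel n h)
    rcases h1 with h1 | h1 <;> rcases h2 with h2 | h2
    · exact absurd (h1.trans h2.symm) hne
    · exact Or.inl ⟨(σ.smul_base n).1 h1, (σ.smul_t ht2 n).1 h2⟩
    · exact Or.inr ⟨h1, h2⟩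
    · exact absurd (h1.trans h2.symm) hne
  obtain ⟨Q, hQ⟩ : ∃ Q : Sylow s G, P₀ ≤ Q := hP₀p.exists_le_sylow
  have hsodd : Odd s := by
    rcases Nat.Prime.eq_two_or_odd' (Fact.out : s.Prime) with h | h
    · exfalso
      subst h
      obtain ⟨k, hk⟩ := hP₀p.exists_card_eq
      rcases Nat.eq_zero_or_pos k with h0 | h0
      · rw [h0, pow_zero] at hk
        have := eq_bot_of_card_eq P₀ hk
        exact hy₀1 (mem_bot.1 (this ▸ ((hmemP₁ _).1 hy₀).1))
      · have hd : Nat.card P₀ ∣ Nat.card σ.B := card_dvd_of_le (hP₀D.trans inf_le_left)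
        rw [hk] at hd
        exact Nat.not_even_iff_odd.2 σ.hBodd
          (even_iff_two_dvd.2 ((dvd_pow_self 2 h0.ne').trans hd))
    · exact h
  have hQeq : P₀ = (Q : Subgroup G) := by
    by_contra hne
    have hlt := Transfer.lt_inf_normalizer Q.2 (lt_of_le_of_ne hQ hne)
    set R := (Q : Subgroup G) ⊓ normalizer (P₀ : Set G)
    have hRD : R ≤ σ.D t := by
      intro n hn
      have hsq : n ^ 2 ∈ σ.D t := by
        rcases hswap (n ^ 2) (pow_mem hn.2 2) with h | ⟨h, -⟩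
        · exact h
        · exfalso
          rw [pow_two, mul_smul] at h
          rcases hswap n hn.2 with h' | ⟨h', h''⟩
          · rw [(σ.smul_base n).2 h'.1, (σ.smul_base n).2 h'.1] at h
            exact σ.base_ne_t ht ht1 h
          · rw [h', h''] at h
            exact σ.base_ne_t ht ht1 h
      obtain ⟨k, hk⟩ := Q.2 ⟨n, hn.1⟩
      have hk' : n ^ s ^ k = 1 := congrArg Subtype.val hk
      obtain ⟨i, hi⟩ : Odd (s ^ k) := hsodd.pow
      have : n = ((n ^ 2) ^ i)⁻¹ := by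
        refine eq_inv_of_mul_eq_one_left ?_
        rw [← pow_mul, ← pow_succ', ← hi, hk']
      rw [this]
      exact inv_mem (pow_mem hsq i)
    have hRp : IsPGroup s (R.subgroupOf (σ.D t)) :=
      (Q.2.to_le inf_le_left).comap_of_injective _ (σ.D t).subtype_injective
    have hle : (P : Subgroup ↥(σ.D t)) ≤ R.subgroupOf (σ.D t) := fun x hx =>
      mem_subgroupOf.2 (hlt.le ⟨x, hx, rfl⟩)
    have := P.3 hRp hle
    refine hlt.ne ?_
    rw [hP₀, ← this, subgroupOf_map_subtype, inf_eq_left.2 hRD]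
  -- elements of `P₁` fix two cosets only
  have hfree : ∀ α : G ⧸ σ.B, α ∉ ({((1 : G) : G ⧸ σ.B), (t : G ⧸ σ.B)} : Set (G ⧸ σ.B)) →
      ∀ h : ↥P₁, h • α = α → h = 1 := by
    rintro α hα ⟨y, hy⟩ hyα
    by_contra hy1
    obtain ⟨hyP, hyt⟩ := (hmemP₁ y).1 hy
    have hyY : zpowers y ≤ σ.D t := zpowers_le.2 (hP₀D hyP)
    refine hα (σ.fix_two ht ht2 ht1 hyY ?_ (mem_zpowers y) (fun h => hy1 (Subtype.ext h)) hyt ?_
      α ?_)
    · rintro _ ⟨i, rfl⟩
      exact ⟨-i, by simp only [← conj_zpow, hyt, inv_zpow']⟩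
    · intro g hg
      have hgy : g * y * g⁻¹ ∈ σ.D t := hg y (mem_zpowers y)
      -- move the conjugate into `P₀`
      obtain ⟨R, hR⟩ : ∃ R : Sylow s ↥(σ.D t), zpowers (⟨g * y * g⁻¹, hgy⟩ : ↥(σ.D t)) ≤ R := by
        refine IsPGroup.exists_le_sylow ?_
        have h1 := (hP₀p.to_le (zpowers_le.2 hyP)).map (MulAut.conj g).toMonoidHom
        rw [MonoidHom.map_zpowers, MulEquiv.coe_toMonoidHom, MulAut.conj_apply] at h1
        intro x
        obtain ⟨i, hi⟩ := mem_zpowers_iff.1 x.2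
        obtain ⟨k, hk⟩ := h1 ⟨(g * y * g⁻¹) ^ i, i, rfl⟩
        refine ⟨k, Subtype.ext (Subtype.ext ?_)⟩
        have := congrArg Subtype.val hk
        simp only [SubmonoidClass.coe_pow, OneMemClass.coe_one] at this ⊢
        rw [← hi]
        simpa using this
      obtain ⟨d, hd⟩ := MulAction.exists_smul_eq ↥(σ.D t) R P
      have hmem : (d : G) * (g * y * g⁻¹) * (d : G)⁻¹ ∈ P₀ := by
        refine ⟨d * ⟨g * y * g⁻¹, hgy⟩ * d⁻¹, ?_, by simp⟩
        rw [← hd, Sylow.coe_subgroup_smul]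
        exact Subgroup.smul_mem_pointwise_smul _ _ _ (hR (mem_zpowers _))
      haveI : IsMulCommutative (Q : Subgroup G) := σ.hA s Q
      set c := (d : G) * g with hc
      have hconj : c * y * c⁻¹ = (d : G) * (g * y * g⁻¹) * (d : G)⁻¹ := by rw [hc]; group
      obtain ⟨n, hn, hneq⟩ := Q.conj_eq_normalizer_conj_of_mem y c⁻¹ (show y ∈ (Q : Subgroup G) by rw [← hQeq]; exact hyP)
        (show c⁻¹⁻¹ * y * c⁻¹ ∈ (Q : Subgroup G) by rw [inv_inv, hconj, ← hQeq]; exact hmem)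
      rw [inv_inv, hconj] at hneq
      have hn' : n⁻¹ ∈ normalizer (P₀ : Set G) := by rw [hQeq]; exact inv_mem hn
      have hgy' : ∀ i : ℤ, g * y ^ i * g⁻¹ = (d : G)⁻¹ * n⁻¹ * y ^ i * ((d : G)⁻¹ * n⁻¹)⁻¹ := by
        intro i
        rw [← conj_zpow, ← conj_zpow]
        congr 1
        calc g * y * g⁻¹ = (d : G)⁻¹ * ((d : G) * (g * y * g⁻¹) * (d : G)⁻¹) * d := by group
          _ = _ := by rw [hneq]; group
      rcases hswap _ hn' with hnD | ⟨hn1, hn2⟩
      · refine ⟨(d : G)⁻¹ * n⁻¹, mul_mem (inv_mem d.2) hnD, ?_⟩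
        rintro _ ⟨i, rfl⟩
        refine ⟨i, ?_⟩
        simp only [hgy']
        group
      · have hnt : n⁻¹ * t ∈ σ.D t := by
          have htb : t • ((1 : G) : G ⧸ σ.B) = (t : G ⧸ σ.B) := by
            rw [MulAction.Quotient.smul_coe, smul_eq_mul, mul_one]
          refine ⟨(σ.smul_base _).1 ?_, (σ.smul_t ht2 _).1 ?_⟩
          · rw [mul_smul, htb, hn2]
          · rw [mul_smul, ← htb, ← mul_smul t t, ht2, one_smul, hn1, htb]
        refine ⟨(d : G)⁻¹ * (n⁻¹ * t), mul_mem (inv_mem d.2) hnt, ?_⟩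
        rintro _ ⟨i, rfl⟩
        refine ⟨-i, ?_⟩
        simp only [hgy']
        have h1 : y ^ (-i) = t⁻¹ * y ^ i * t := by
          have h0 : t * y ^ (-i) * t⁻¹ = y ^ i := by
            rw [← conj_zpow, hyt, inv_zpow', neg_neg]
          conv_rhs => rw [← h0]
          group
        rw [h1]
        group
    · rintro _ ⟨i, rfl⟩
      exact MulAction.mem_stabilizer_iff.1
        (zpow_mem (MulAction.mem_stabilizer_iff.2 hyα : y ∈ MulAction.stabilizer G α) i)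
  refine hdvd1.trans ?_
  have h := card_dvd_of_semiregular (H := ↥P₁) _ ?_ hfree
  · rw [Set.ncard_pair (σ.base_ne_t ht ht1)] at h
    rw [show Nat.card (G ⧸ σ.B) = Nat.card σ.S from σ.hidx] at h
    exact h
  · rintro α (rfl | rfl) h
    · exact (σ.smul_base _).2 (hP₀D ((hmemP₁ _).1 h.2).1).1
    · exact (σ.smul_t ht2 _).2 (hP₀D ((hmemP₁ _).1 h.2).1).2

include σ in
theorem absurd_setup : False := by
  haveI : Fact (Nat.Prime 2) := ⟨Nat.prime_two⟩
  obtain ⟨t, ht, ht2, ht1⟩ := σ.hinv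
  set q := Nat.card σ.S with hq
  set C := centralizer ({t} : Set G)
  set D₀ := σ.B ⊓ C with hD₀
  obtain ⟨j, hj⟩ : Nat.card D₀ ∣ Nat.card (σ.D t) := card_dvd_of_le (σ.inf_centralizer_le_D ht2)
  have hDodd : Odd (Nat.card (σ.D t)) := σ.hBodd.of_dvd_nat (card_dvd_of_le inf_le_left)
  have hjodd : Odd j := hDodd.of_dvd_nat ⟨_, hj.trans (mul_comm _ _)⟩
  have htn : ∀ x ∈ σ.D t, t * x * t⁻¹ ∈ σ.D t := fun x hx => by
    refine ⟨hx.2, ?_⟩
    change t * (t * x * t⁻¹) * t⁻¹ ∈ σ.B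
    rw [eq_inv ht2, show t * (t * x * t) * t = t * t * x * (t * t) by group, ht2, one_mul, mul_one]
    exact hx.1
  -- `j` divides `q - 2`
  have hjdvd : j ∣ q - 2 := by
    rw [Nat.dvd_iff_prime_pow_dvd_dvd]
    intro s a hs hsa
    haveI : Fact s.Prime := ⟨hs⟩
    have hnorm : zpowers t ≤ normalizer ((σ.D t : Subgroup G) : Set G) := by
      rw [zpowers_le, mem_normalizer_iff_map_conj_eq]
      refine eq_of_le_of_card_ge ?_ (card_map_of_injective (MulAut.conj t).injective).ge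
      rintro _ ⟨x, hx, rfl⟩
      exact htn x hx
    have hcop : (Nat.card (zpowers t)).Coprime (Nat.card (σ.D t)) := by
      rw [Nat.card_zpowers, orderOf_eq_prime (p := 2) (by rw [pow_two, ht2]) ht1]
      exact Nat.coprime_two_left.2 hDodd
    obtain ⟨P, hP⟩ := Coprime.exists_invariant_sylow hnorm hcop
      (Or.inl inferInstance) s
    set P₀ := (P : Subgroup ↥(σ.D t)).map (σ.D t).subtype
    have hPt : ∀ x ∈ P₀, t * x * t⁻¹ ∈ P₀ := fun x hx =>
      (mem_normalizer_iff.1 (hP (mem_zpowers t)) x).1 hx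
    refine dvd_trans ?_ (σ.index_dvd_sub_two ht ht2 ht1 P hPt)
    have hP₀p : IsPGroup s P₀ := P.2.map _
    obtain ⟨c, hc⟩ := (hP₀p.to_le (inf_le_right : C ⊓ P₀ ≤ P₀)).exists_card_eq
    have hcD : Nat.card ↥(C ⊓ P₀) ∣ Nat.card D₀ :=
      card_dvd_of_le fun x hx => ⟨(map_subtype_le (P : Subgroup ↥(σ.D t)) hx.2).1, hx.1⟩
    have h1 : Nat.card ↥(C ⊓ P₀) * s ^ a ∣ Nat.card (σ.D t) := hj ▸ mul_dvd_mul hcD hsa
    have hP₀card : Nat.card ↥P₀ = Nat.card ↥(P : Subgroup ↥(σ.D t)) :=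
      card_map_of_injective (σ.D t).subtype_injective
    have h2 : Nat.card ↥(C ⊓ P₀) * s ^ a ∣ Nat.card ↥P₀ := by
      rw [hP₀card, P.card_eq_multiplicity]
      rw [hc, ← pow_add] at h1 ⊢
      exact pow_dvd_pow _ ((hs.pow_dvd_iff_le_factorization Nat.card_pos.ne').1 h1)
    rw [← PLocal.card_mul_relIndex (inf_le_right : C ⊓ P₀ ≤ P₀), inf_relIndex_right] at h2
    exact Nat.dvd_of_mul_dvd_mul_left Nat.card_pos h2
  -- orders
  have hB := σ.card_B ht ht2 ht1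
  have hC := σ.card_centralizer ht
  have hM := σ.card_M ht ht2 ht1
  have hG1 : Nat.card σ.B * q = Nat.card G := by rw [hq, ← σ.hidx]; exact σ.B.card_mul_index
  have hG2 := σ.M.card_mul_index
  obtain ⟨k, hk⟩ := σ.S.2.exists_card_eq
  set v := Nat.card σ.omega
  have hvq : v ∣ q := card_dvd_of_le fun x hx => hx.1
  have hv2 : 2 ≤ v := by
    refine Finite.one_lt_card_iff_nontrivial.2
      ⟨⟨⟨t, ht, ht2⟩, 1, fun h => ht1 (congrArg Subtype.val h)⟩⟩
  have hkey : (q - 1) * j = σ.M.index * (v - 1) := by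
    have e : Nat.card D₀ * q * ((q - 1) * j) = Nat.card D₀ * q * (σ.M.index * (v - 1)) := by
      calc Nat.card D₀ * q * ((q - 1) * j) = (q - 1) * (Nat.card D₀ * j) * q := by ring
        _ = Nat.card G := by rw [← hj, hB, hG1]
        _ = (v - 1) * (q * Nat.card D₀) * σ.M.index := by rw [hC, hM, hG2]
        _ = _ := by ring
    exact Nat.eq_of_mul_eq_mul_left (Nat.mul_pos Nat.card_pos Nat.card_pos) e
  obtain ⟨m, hm⟩ := σ.index_M_mod ht ht1
  rw [← hq] at hm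
  have hkpos : 0 < σ.M.index := Nat.pos_of_ne_zero index_ne_zero_of_finite
  have hkne : σ.M.index ≠ 1 := fun h => σ.M_ne_top (index_eq_one.1 h)
  have hM1 : σ.M.index = 1 + m * q := by rw [mul_comm m]; omega
  have hmpos : 0 < m := Nat.pos_of_ne_zero fun h => hkne (by rw [hM1, h, zero_mul, add_zero])
  have hqne : q ≠ 2 := by
    intro h
    have h2 : σ.B.index = 2 := σ.hidx.trans h
    have hn := normal_of_index_eq_two h2
    rcases σ.hsimple.eq_bot_or_eq_top_of_normal _ hn with h' | h'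
    · have hG2 : Nat.card G = 2 := by rw [← index_bot, ← h']; exact h2
      have hcyc : IsCyclic G := isCyclic_of_prime_card hG2
      exact σ.hna fun a b => by
        letI := hcyc.commGroup
        exact mul_comm a b
    · exact σ.B_ne_top h'
  have hv2k : v ≤ q := Nat.le_of_dvd Nat.card_pos hvq
  have hq2 : 2 ∣ q := by
    have : 1 ≤ k := by
      rcases Nat.eq_zero_or_pos k with h | h
      · rw [h, pow_zero] at hk
        omega
      · exact h
    rw [hq, hk]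
    exact dvd_pow_self 2 (by omega)
  have hq4 : 4 ≤ q := by omega
  have hj2 : 2 * j ≤ q - 2 := by
    obtain ⟨i, hi⟩ := hjdvd
    have hieven : 2 ∣ i := by
      have : 2 ∣ j * i := hi ▸ Nat.dvd_sub hq2 dvd_rfl
      exact (Nat.coprime_two_left.2 hjodd).dvd_of_dvd_mul_left this
    rcases Nat.eq_zero_or_pos i with h | h
    · rw [h, mul_zero] at hi; omega
    · have h2i : 2 ≤ i := Nat.le_of_dvd h hieven
      have h3 : j * 2 ≤ j * i := Nat.mul_le_mul_left j h2i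
      omega
  have hsum : q ∣ j + (v - 1) := by
    refine (Nat.dvd_add_right (dvd_mul_left q (m * (v - 1)))).1 ?_
    refine ⟨j, ?_⟩
    have h1 : (q - 1) * j + j = q * j := by
      rw [← Nat.succ_mul]; congr 1; omega
    rw [← h1, hkey, hM1]
    ring
  obtain ⟨c, hc⟩ := hsum
  have hc1 : c = 1 := by
    rcases Nat.lt_or_ge c 2 with h | h
    · rcases Nat.eq_zero_or_pos c with h0 | h0
      · rw [h0, mul_zero] at hc; omega
      · omega
    · have h2 : q * 2 ≤ q * c := Nat.mul_le_mul_left q h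
      omega
  rw [hc1, mul_one] at hc
  obtain ⟨e, he⟩ := hvq
  have he1 : e = 1 := by
    rcases Nat.lt_or_ge e 2 with h | h
    · rcases Nat.eq_zero_or_pos e with h0 | h0
      · rw [h0, mul_zero] at he; omega
      · omega
    · have h2 : v * 2 ≤ v * e := Nat.mul_le_mul_left v h
      omega
  rw [he1, mul_one] at he
  have hj1 : j = 1 := by omega
  rw [hj1, mul_one, hM1, ← he] at hkey
  have hm1 : q ≤ m * q := Nat.le_mul_of_pos_left q hmpos
  have h3 : (1 + m * q) * 1 ≤ (1 + m * q) * (q - 1) := Nat.mul_le_mul_left _ (by omega)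
  have h4 : (1 + m * q) * (q - 1) ≥ (1 + q) * (q - 1) := Nat.mul_le_mul_right _ (by omega)
  have h5 : (1 + q) * (q - 1) ≥ (1 + q) * 1 := Nat.mul_le_mul_left _ (by omega)
  have h6 : (1 + q) * (q - 1) = q - 1 + q * (q - 1) := by ring
  have h7 : q * 1 ≤ q * (q - 1) := Nat.mul_le_mul_left _ (by omega)
  omega

end Setup

end CfsgLib.AGroups
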