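/-
A group with abelian Sylow subgroups and a subgroup of odd order and `2`-power index is solvable.
-/
import Cfsg.Agent.AGroups.Count
import Cfsg.Agent.S0205

set_option autoImplicit false

namespace CfsgLib.AGroups

open Subgroup

universe u

theorem isSolvable_of_normal {G : Type*} [Group G] (N : Subgroup G) [N.Normal]
    (hN : Group.IsSolvable ↥N) (hQ : Group.IsSolvable (G ⧸ N)) : Group.IsSolvable G := by
  haveI : Group.IsSolvable ↥N := hN
  haveI : Group.IsSolvable (G ⧸ N) := hQ
  exact Group.isSolvable_of_ker_le_range N.subtype (QuotientGroup.mk' N) (by simp)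

theorem exists_two_pow_of_dvd {n k : ℕ} (h : n ∣ 2 ^ k) : ∃ i, n = 2 ^ i :=
  let ⟨i, _, hi⟩ := (Nat.dvd_prime_pow Nat.prime_two).1 h
  ⟨i, hi⟩

theorem isSolvable_aux : ∀ (n : ℕ) (G : Type u) [Group G] [Finite G], Nat.card G ≤ n →
    AbelianSylows G → (∃ B : Subgroup G, Odd (Nat.card B) ∧ ∃ k, B.index = 2 ^ k) →
    Group.IsSolvable G := by
  intro n
  induction n with
  | zero => intro G _ _ h; exact absurd h (not_le.2 Nat.card_pos)
  | succ n ih =>
  intro G _ _ hn hA ⟨B, hBodd, k, hk⟩
  haveI : Fact (Nat.Prime 2) := ⟨Nat.prime_two⟩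
  by_cases hodd : Odd (Nat.card G)
  · exact Cfsg.Agent.S0205.result hodd
  by_cases hab : ∀ a b : G, a * b = b * a
  · exact Group.isSolvable_of_comm hab
  by_cases hN : ∃ N : Subgroup G, N.Normal ∧ N ≠ ⊥ ∧ N ≠ ⊤
  · obtain ⟨N, hNn, hNb, hNt⟩ := hN
    have hNlt : Nat.card ↥N < Nat.card G :=
      lt_of_le_of_ne (card_le_card_group N) fun h => hNt (eq_top_of_card_eq N h)
    have hNpos : 1 < Nat.card ↥N := (one_lt_card_iff_ne_bot N).2 hNb
    have hGN : Nat.card (G ⧸ N) * Nat.card ↥N = Nat.card G := (card_eq_card_quotient_mul_card_subgroup N).symm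
    have hQlt : Nat.card (G ⧸ N) < Nat.card G := by
      rw [← hGN]
      exact lt_mul_of_one_lt_right Nat.card_pos hNpos
    -- image of `B`
    set Bb := B.map (QuotientGroup.mk' N)
    have hBbidx : Bb.index = (B ⊔ N).index := by
      rw [index_map, QuotientGroup.ker_mk', (MonoidHom.range_eq_top.2
        (QuotientGroup.mk'_surjective N)), index_top, mul_one]
    have hBb : Nat.card ↥Bb * Nat.card ↥(B ⊓ N) = Nat.card ↥B := by
      have h := card_eq_card_quotient_mul_card_subgroup ((QuotientGroup.mk' N).domRestrict B).ker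
      rw [MonoidHom.ker_domRestrict, QuotientGroup.ker_mk',
        show Nat.card (↥B ⧸ N.subgroupOf B) = Nat.card ↥Bb from ?_,
        show Nat.card ↥(N.subgroupOf B) = Nat.card ↥(B ⊓ N) from ?_] at h
      · exact h.symm
      · rw [← inf_subgroupOf_left, Nat.card_congr (subgroupOfEquivOfLe inf_le_left).toEquiv]
      · have hrel : Nat.card (↥B ⧸ N.subgroupOf B) = (N.subgroupOf B).index := rfl
        have := relIndex_ker (QuotientGroup.mk' N) (K := B)
        rw [QuotientGroup.ker_mk'] at this
        exact hrel.trans this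
    refine isSolvable_of_normal N ?_ ?_
    · refine ih ↥N (by omega) (hA.subgroup N) ⟨(B ⊓ N).subgroupOf N, ?_, ?_⟩
      · rw [Nat.card_congr (subgroupOfEquivOfLe inf_le_right).toEquiv]
        exact hBodd.of_dvd_nat ⟨_, (hBb.symm.trans (mul_comm _ _))⟩
      · refine exists_two_pow_of_dvd (k := k) ⟨(B ⊔ N).index, ?_⟩
        refine Nat.eq_of_mul_eq_mul_left (Nat.card_pos (α := ↥B)) ?_
        have h1 := Bb.card_mul_index
        rw [hBbidx] at h1
        have h2 := ((B ⊓ N).subgroupOf N).card_mul_index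
        rw [Nat.card_congr (subgroupOfEquivOfLe inf_le_right).toEquiv] at h2
        rw [← hk, B.card_mul_index, ← hGN, ← hBb, ← h1, ← h2]
        ring
    · refine ih (G ⧸ N) (by omega) (hA.quotient N) ⟨Bb, hBodd.of_dvd_nat ⟨_, hBb.symm⟩,
        exists_two_pow_of_dvd (k := k) (hk ▸ ?_)⟩
      rw [hBbidx]
      exact index_dvd_of_le le_sup_left
  -- the simple case
  exfalso
  have hnt : Nontrivial G := by
    by_contra h
    rw [not_nontrivial_iff_subsingleton] at h
    exact hab fun a b => Subsingleton.elim _ _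
  have hsimple : IsSimpleGroup G := ⟨fun H hH => by
    by_contra hc
    push Not at hc
    exact hN ⟨H, hH, hc.1, hc.2⟩⟩
  obtain ⟨S⟩ : Nonempty (Sylow 2 G) := inferInstance
  have hidx : B.index = Nat.card S := by
    obtain ⟨l, hl⟩ := S.2.exists_card_eq
    have hBcop : (Nat.card B).Coprime 2 := Nat.coprime_two_right.2 hBodd
    rw [hk, hl]
    congr 1
    have h := S.card_eq_multiplicity
    rw [hl] at h
    rw [Nat.pow_right_injective le_rfl h, ← B.card_mul_index, hk,
      Nat.factorization_mul Nat.card_pos.ne' (by positivity)]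
    simp [Nat.factorization_eq_zero_of_not_dvd
      (show ¬ 2 ∣ Nat.card B from fun h => Nat.not_even_iff_odd.2 hBodd (even_iff_two_dvd.2 h)),
      Nat.prime_two.factorization_self]
  have hinv : ∃ t ∈ (S : Subgroup G), t * t = 1 ∧ t ≠ 1 := by
    have h2 : 2 ∣ Nat.card G := even_iff_two_dvd.1 (Nat.not_odd_iff_even.1 hodd)
    have h2S : 2 ∣ Nat.card S := S.dvd_card_of_dvd_card h2
    obtain ⟨⟨t, ht⟩, hto⟩ := exists_prime_orderOf_dvd_card' 2 h2S
    rw [Subgroup.orderOf_mk] at hto
    refine ⟨t, ht, ?_, fun h => by rw [h, orderOf_one] at hto; omega⟩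
    rw [← pow_two, ← hto, pow_orderOf_eq_one]
  have hC : ∀ u ∈ (S : Subgroup G), u ≠ 1 →
      Group.IsSolvable ↥(centralizer ({u} : Set G)) := by
    intro u hu hu1
    set C := centralizer ({u} : Set G) with hCdef
    have hne : C ≠ ⊤ := by
      intro h
      rcases hsimple.eq_bot_or_eq_top_of_normal (center G) inferInstance with hc | hc
      · exact hu1 (mem_bot.1 (hc ▸ mem_center_iff.2 fun g =>
          mem_centralizer_singleton_iff.1 (hCdef ▸ h ▸ mem_top g)))
      · exact hab fun a b => mem_center_iff.1 (hc ▸ mem_top b : b ∈ center G) a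
    have hlt : Nat.card ↥C < Nat.card G :=
      lt_of_le_of_ne (card_le_card_group C) fun h => hne (eq_top_of_card_eq C h)
    refine ih ↥C (by omega) (hA.subgroup C) ⟨(B ⊓ C).subgroupOf C, ?_, k, ?_⟩
    · rw [Nat.card_congr (subgroupOfEquivOfLe inf_le_right).toEquiv]
      exact hBodd.of_dvd_nat (card_dvd_of_le inf_le_left)
    · -- `S ≤ C` is transitive on the cosets of `B`
      have hSC : (S : Subgroup G) ≤ C := fun s hs =>
        mem_centralizer_singleton_iff.2 (hA.comm S.2 hs hu)
      have hdis : B.subgroupOf (S : Subgroup G) = ⊥ := by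
        rw [subgroupOf_eq_bot]
        obtain ⟨l, hl⟩ := S.2.exists_card_eq
        refine disjoint_of_coprime_natCard ?_
        rw [hl]
        exact (Nat.coprime_two_right.2 hBodd).pow_right l
      change (B ⊓ C).relIndex C = _
      rw [inf_relIndex_right, ← hk]
      refine le_antisymm ?_ ?_
      · rw [← relIndex_top_right]
        exact relIndex_le_of_le_right le_top
          (by rw [relIndex_top_right]; exact index_ne_zero_of_finite)
      · rw [hidx, ← index_bot (G := ↥(S : Subgroup G)), ← hdis]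
        exact relIndex_le_of_le_right hSC index_ne_zero_of_finite
  exact (Setup.mk hA S B hBodd hidx hsimple hab hC hinv).absurd_setup

/-- A group with abelian Sylow subgroups and an odd subgroup of `2`-power index is solvable. -/
theorem isSolvable_of_odd_two_power_index {G : Type u} [Group G] [Finite G] (hA : AbelianSylows G)
    {B : Subgroup G} {k : ℕ} (hB : Odd (Nat.card B)) (hk : B.index = 2 ^ k) :
    Group.IsSolvable G :=
  isSolvable_aux _ G le_rfl hA ⟨B, hB, k, hk⟩

end CfsgLib.AGroups
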