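/-
The last term of the derived series of a subgroup.
-/
import Mathlib.GroupTheory.Solvable
import Mathlib.GroupTheory.Index
import Mathlib.Algebra.Group.Subgroup.Finite

set_option autoImplicit false

namespace CfsgLib.AGroups

open Subgroup

variable {G : Type*} [Group G]

/-- The derived series starting at a subgroup, formed in the whole group. -/
def derivedFrom (H : Subgroup G) : ℕ → Subgroup G
  | 0 => H
  | n + 1 => ⁅derivedFrom H n, derivedFrom H n⁆

theorem derivedFrom_succ (H : Subgroup G) (n : ℕ) :
    derivedFrom H (n + 1) = ⁅derivedFrom H n, derivedFrom H n⁆ := rfl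

theorem derivedFrom_succ_le (H : Subgroup G) (n : ℕ) : derivedFrom H (n + 1) ≤ derivedFrom H n :=
  commutator_le_self _

theorem derivedFrom_le (H : Subgroup G) : ∀ n, derivedFrom H n ≤ H
  | 0 => le_rfl
  | n + 1 => (derivedFrom_succ_le H n).trans (derivedFrom_le H n)

theorem derivedFrom_stable [Finite G] (H : Subgroup G) :
    ∃ n, derivedFrom H (n + 1) = derivedFrom H n := by
  classical
  have h : ∃ m, ∃ n, Nat.card ↥(derivedFrom H n) = m := ⟨_, 0, rfl⟩
  obtain ⟨n, hn⟩ := Nat.find_spec h
  refine ⟨n, eq_of_le_of_card_ge (derivedFrom_succ_le H n) ?_⟩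
  rw [hn]
  exact Nat.find_min' h ⟨n + 1, rfl⟩

/-- The largest perfect subgroup of `H`. -/
noncomputable def perfectPart [Finite G] (H : Subgroup G) : Subgroup G :=
  derivedFrom H (derivedFrom_stable H).choose

theorem perfectPart_le [Finite G] (H : Subgroup G) : perfectPart H ≤ H := derivedFrom_le _ _

theorem perfectPart_perfect [Finite G] (H : Subgroup G) :
    ⁅perfectPart H, perfectPart H⁆ = perfectPart H := (derivedFrom_stable H).choose_spec

theorem le_derivedFrom {H L : Subgroup G} (hL : ⁅L, L⁆ = L) (hLH : L ≤ H) :
    ∀ n, L ≤ derivedFrom H n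
  | 0 => hLH
  | n + 1 => hL ▸ commutator_mono (le_derivedFrom hL hLH n) (le_derivedFrom hL hLH n)

theorem le_perfectPart [Finite G] {H L : Subgroup G} (hL : ⁅L, L⁆ = L) (hLH : L ≤ H) :
    L ≤ perfectPart H := le_derivedFrom hL hLH _

theorem map_derivedFrom {G' : Type*} [Group G'] (f : G →* G') (H : Subgroup G) :
    ∀ n, (derivedFrom H n).map f = derivedFrom (H.map f) n
  | 0 => rfl
  | n + 1 => by
    rw [derivedFrom_succ, derivedFrom_succ, map_commutator, map_derivedFrom f H n]

instance perfectPart_normal [Finite G] (H : Subgroup G) [hH : H.Normal] :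
    (perfectPart H).Normal := by
  have : ∀ n, (derivedFrom H n).Normal := by
    intro n
    induction n with
    | zero => exact hH
    | succ n ih => exact commutator_normal _ _
  exact this _

/-- An element normalizing `H` normalizes its perfect part. -/
theorem conj_mem_perfectPart [Finite G] {H : Subgroup G} {g x : G}
    (hg : H.map (MulAut.conj g).toMonoidHom = H) (hx : x ∈ perfectPart H) :
    g * x * g⁻¹ ∈ perfectPart H := by
  have : (perfectPart H).map (MulAut.conj g).toMonoidHom = perfectPart H := by
    rw [perfectPart, map_derivedFrom, hg]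
  rw [← this]
  exact ⟨x, hx, rfl⟩

theorem isSolvable_of_perfectPart_eq_bot [Finite G] {H : Subgroup G} (h : perfectPart H = ⊥) :
    Group.IsSolvable ↥H := by
  rw [Group.isSolvable_def]
  refine ⟨(derivedFrom_stable H).choose, (map_eq_bot_iff_of_injective _ H.subtype_injective).1 ?_⟩
  have hn : ∀ n, (derivedSeries ↥H n).map H.subtype = derivedFrom H n := by
    intro n
    induction n with
    | zero => simp [derivedFrom, ← MonoidHom.range_eq_map]
    | succ n ih => rw [derivedSeries_succ, map_commutator, ih, derivedFrom_succ]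
  rw [hn]
  exact h

/-- A perfect image is the image of the perfect part. -/
theorem map_perfectPart_eq_top [Finite G] {G' : Type*} [Group G'] (f : G →* G')
    (hP : ⁅(⊤ : Subgroup G'), (⊤ : Subgroup G')⁆ = ⊤) {H : Subgroup G} (hH : H.map f = ⊤) :
    (perfectPart H).map f = ⊤ := by
  rw [perfectPart, map_derivedFrom, hH, eq_top_iff]
  exact le_derivedFrom hP le_rfl _

/-- A perfect subgroup of a solvable group is trivial. -/
theorem eq_bot_of_perfect [Group.IsSolvable G] {L : Subgroup G} (hL : ⁅L, L⁆ = L) : L = ⊥ := by
  obtain ⟨n, hn⟩ := (Group.IsSolvable.solvable : ∃ n, derivedSeries G n = ⊥)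
  have : ∀ k, L ≤ derivedSeries G k := by
    intro k
    induction k with
    | zero => exact le_top
    | succ k ih => rw [derivedSeries_succ, ← hL]; exact commutator_mono ih ih
  exact le_bot_iff.1 (hn ▸ this n)

end CfsgLib.AGroups
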