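/-
Solvability of the centralizer of an element whose class has the largest possible `2`-part.
-/
import Cfsg.Agent.AGroups.PerfectPart
import Cfsg.Agent.AGroups.Factorization
import Cfsg.Agent.S0089
import Cfsg.Agent.PrimePowerClass.Main
import Cfsg.Agent.OneClassInvolutions.TwoLength

set_option autoImplicit false

namespace CfsgLib.AGroups

open Subgroup Cfsg

universe u

variable {G : Type u} [Group G] [Finite G]

/-- A subgroup whose image in a solvable quotient is perfect maps trivially. -/
theorem le_ker_of_perfect {G' : Type*} [Group G'] [Group.IsSolvable G'] (f : G →* G')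
    {L : Subgroup G} (hL : ⁅L, L⁆ = L) : L ≤ f.ker := by
  rw [← Subgroup.map_eq_bot_iff]
  exact eq_bot_of_perfect (by rw [← map_commutator, hL])

/-- Perfect subgroups centralize `O₂(G)` when the Sylow `2`-subgroups are abelian. -/
theorem perfect_le_centralizer_pCore (hA : AbelianSylows G) {L : Subgroup G} (hL : ⁅L, L⁆ = L) :
    L ≤ centralizer ((pCore 2 G : Subgroup G) : Set G) := by
  haveI : Fact (Nat.Prime 2) := ⟨Nat.prime_two⟩
  haveI : (pCore 2 G).Normal := inferInstance
  set C := centralizer ((pCore 2 G : Subgroup G) : Set G)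
  obtain ⟨S⟩ : Nonempty (Sylow 2 G) := inferInstance
  have hSC : (S : Subgroup G) ≤ C := fun s hs =>
    mem_centralizer_iff.2 fun z hz => hA.comm S.2 (PLocal.pCore_le_sylow S hz) hs
  have hodd : Odd (Nat.card (G ⧸ C)) := by
    rw [← Nat.not_even_iff_odd, even_iff_two_dvd]
    exact fun h => S.not_dvd_index (h.trans (index_dvd_of_le hSC))
  haveI : Group.IsSolvable (G ⧸ C) := Cfsg.Agent.S0205.result hodd
  have := le_ker_of_perfect (QuotientGroup.mk' C) hL
  rwa [QuotientGroup.ker_mk'] at this

/-- An `r`-element of the Fitting subgroup lies in the `r`-core. -/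
theorem mem_pCore_of_mem_fitting {r : ℕ} [Fact r.Prime] {z : G} (hz : z ∈ fittingSubgroup G)
    (hr : IsPGroup r (zpowers z)) : z ∈ pCore r G := by
  haveI : Group.IsNilpotent ↥(fittingSubgroup G) := Solvable.fittingSubgroup_isNilpotent
  haveI : (fittingSubgroup G).Normal := Solvable.fittingSubgroup_normal
  have h : IsPGroup r (zpowers (⟨z, hz⟩ : ↥(fittingSubgroup G))) := by
    have h2 := hr.comap_of_injective (fittingSubgroup G).subtype
      (fittingSubgroup G).subtype_injective
    exact h2.to_le (zpowers_le.2 (mem_zpowers z))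
  obtain ⟨P, hP⟩ := h.exists_le_sylow
  have hPn : (P : Subgroup ↥(fittingSubgroup G)).Normal :=
    Sylow.normal_of_normalizerCondition Group.normalizerCondition_of_isNilpotent P
  haveI := Sylow.characteristic_of_normal P hPn
  haveI := PLocal.normal_map_subtype (fittingSubgroup G) (P : Subgroup ↥(fittingSubgroup G))
  exact PLocal.le_pCore (P.2.map (fittingSubgroup G).subtype) ⟨⟨z, hz⟩, hP (mem_zpowers _), rfl⟩

/-- Elements fixed by a Sylow subgroup up to conjugacy make it central. -/
theorem le_center_of_forall_centralizes {T : Type*} [Group T] [Finite T] {p : ℕ} [Fact p.Prime]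
    (Q : Sylow p T) (h : ∀ t : T, ∃ R : Sylow p T, ∀ x ∈ (R : Subgroup T), x * t = t * x) :
    (Q : Subgroup T) ≤ center T := by
  have htop : centralizer ((Q : Subgroup T) : Set T) = ⊤ := by
    refine GroupBasics.eq_top_of_forall_conj_mem fun t => ?_
    obtain ⟨R, hR⟩ := h t
    obtain ⟨a, ha⟩ := MulAction.exists_smul_eq T R Q
    refine ⟨a, mem_centralizer_iff.2 fun x hx => ?_⟩
    have hx' : a⁻¹ * x * a ∈ (R : Subgroup T) := by
      rw [← ha, Sylow.coe_subgroup_smul, SetLike.mem_coe,
        Subgroup.mem_pointwise_smul_iff_inv_smul_mem] at hx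
      simpa [MulAut.smul_def, mul_assoc] using hx
    calc x * (a * t * a⁻¹) = a * (a⁻¹ * x * a * t) * a⁻¹ := by group
      _ = a * (t * (a⁻¹ * x * a)) * a⁻¹ := by rw [hR _ hx']
      _ = _ := by group
  intro q hq
  rw [mem_center_iff]
  intro g
  exact ((mem_centralizer_iff.1 (htop ▸ mem_top g)) q hq).symm

omit [Finite G] in
theorem relIndex_dvd_of_normalized [Finite G] {P E K : Subgroup G} (hP : P ≤ K) (hE : E ≤ K)
    (hn : (E.subgroupOf K).Normal) : P.relIndex E ∣ P.relIndex K := by
  haveI := hn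
  set P' := P.subgroupOf K
  set E' := E.subgroupOf K
  have h1 : P'.relIndex E' = P.relIndex E := relIndex_subgroupOf hE
  rw [← h1]
  change P'.relIndex E' ∣ P'.index
  have h2 := P'.card_mul_index
  have h3 := (P' ⊔ E').card_mul_index
  have h4 : E'.relIndex (P' ⊔ E') = E'.relIndex P' := relIndex_sup_right _ _
  have h5 := PLocal.card_mul_relIndex (le_sup_right : E' ≤ P' ⊔ E')
  have h6 := PLocal.card_mul_relIndex (inf_le_right : E' ⊓ P' ≤ P')
  have h7 := PLocal.card_mul_relIndex (inf_le_right : P' ⊓ E' ≤ E')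
  rw [inf_relIndex_right] at h6 h7
  rw [h4] at h5
  rw [inf_comm] at h6
  refine ⟨(P' ⊔ E').index, Nat.eq_of_mul_eq_mul_left (Nat.card_pos (α := ↥P')) ?_⟩
  rw [h2, ← h3, ← h5, ← h7, ← h6]
  ring

/-- For `x` of odd order whose class size is the largest `2`-part of a class size, `C(x)` is
solvable when all Sylow subgroups are abelian. -/
theorem isSolvable_centralizer (hA : AbelianSylows G) {a : ℕ}
    (hmax : ∀ y : G, ¬ 2 ^ (a + 1) ∣ (centralizer ({y} : Set G)).index) {x : G}
    (hxodd : Odd (orderOf x)) (hx : (centralizer ({x} : Set G)).index = 2 ^ a) :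
    Group.IsSolvable ↥(centralizer ({x} : Set G)) := by
  classical
  haveI : Fact (Nat.Prime 2) := ⟨Nat.prime_two⟩
  set K := centralizer ({x} : Set G) with hK
  set E := perfectPart K with hEdef
  by_cases hEbot : E = ⊥
  · exact isSolvable_of_perfectPart_eq_bot hEbot
  exfalso
  have hEK : E ≤ K := perfectPart_le K
  have hEperf : ⁅E, E⁆ = E := perfectPart_perfect K
  haveI hEn : (E.subgroupOf K).Normal := by
    refine ⟨fun n hn g => ?_⟩
    rw [mem_subgroupOf] at hn ⊢
    refine conj_mem_perfectPart ?_ hn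
    refine eq_of_le_of_card_ge ?_ (card_map_of_injective (MulAut.conj (g : G)).injective).ge
    rintro _ ⟨k, hk, rfl⟩
    exact mul_mem (mul_mem g.2 hk) (inv_mem g.2)
  -- a simple quotient `T` of `E`
  obtain ⟨Nn, ⟨hNnn, hNne⟩, hNmax⟩ := (Set.toFinite {V : Subgroup ↥E | V.Normal ∧ V ≠ ⊤}).exists_maximal
    ⟨⊥, inferInstance, fun h => hEbot (by
      rw [eq_bot_iff]
      intro e he
      have hm : (⟨e, he⟩ : ↥E) ∈ (⊥ : Subgroup ↥E) := h ▸ mem_top _
      exact congrArg Subtype.val (mem_bot.1 hm))⟩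
  haveI := hNnn
  let φ : ↥E →* ↥E ⧸ Nn := QuotientGroup.mk' Nn
  have hφ : Function.Surjective φ := QuotientGroup.mk'_surjective Nn
  have hTperf : ⁅(⊤ : Subgroup (↥E ⧸ Nn)), (⊤ : Subgroup (↥E ⧸ Nn))⁆ = ⊤ := by
    rw [← map_top_of_surjective φ hφ, ← map_commutator]
    congr 1
    apply map_injective E.subtype_injective
    rw [map_commutator, ← MonoidHom.range_eq_map, range_subtype, hEperf]
  have hTsimple : ∀ V : Subgroup (↥E ⧸ Nn), V.Normal → V = ⊥ ∨ V = ⊤ := by
    intro V hV
    by_cases htop : V.comap φ = ⊤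
    · right
      rw [← map_comap_eq_self_of_surjective hφ V, htop, map_top_of_surjective φ hφ]
    · left
      have hle : Nn ≤ V.comap φ := fun n hn => by
        rw [mem_comap, show φ n = 1 from (QuotientGroup.eq_one_iff n).2 hn]
        exact one_mem _
      have heq : V.comap φ ≤ Nn := hNmax ⟨hV.comap φ, htop⟩ hle
      rw [← map_comap_eq_self_of_surjective hφ V, le_antisymm heq hle, Subgroup.map_eq_bot_iff,
        QuotientGroup.ker_mk']
  have hTnt : ¬ ∀ u v : ↥E ⧸ Nn, u * v = v * u := by
    intro hab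
    have h1 : ⁅(⊤ : Subgroup (↥E ⧸ Nn)), (⊤ : Subgroup (↥E ⧸ Nn))⁆ = ⊥ := by
      rw [commutator_eq_bot_iff_le_centralizer]
      exact fun u _ => mem_centralizer_iff.2 fun v _ => hab v u
    rw [hTperf] at h1
    refine hNne (eq_top_iff.2 fun e _ => ?_)
    rw [← QuotientGroup.eq_one_iff]
    exact mem_bot.1 (h1 ▸ mem_top _)
  -- the `r`-cores modulo `O₂`
  set Q0 := pCore 2 G
  set π := QuotientGroup.mk' Q0
  have hEQ0 : E ≤ centralizer (Q0 : Set G) := perfect_le_centralizer_pCore hA hEperf
  have hxF : π x ∈ fittingSubgroup (G ⧸ Q0) := by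
    obtain ⟨b, hb⟩ := PrimePowerClass.pPow_of_dvd (p := 2)
      (hx ▸ PrimePowerClass.index_dvd_quotient Q0 x)
    exact PrimePowerClass.mem_fitting_aux (p := 2) _ _ le_rfl _ ⟨b, hb⟩
      (PLocal.pCore_quotient_pCore_eq_bot 2 G)
  let N : ℕ → Subgroup G := fun r => (pCore r (G ⧸ Q0)).comap π
  let W : ℕ → Subgroup G := fun r => perfectPart (centralizer (N r : Set G))
  have hNn : ∀ r, (N r).Normal := fun r => (inferInstance : (pCore r (G ⧸ Q0)).Normal).comap π
  have hWn : ∀ r, (W r).Normal := fun r => by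
    haveI := hNn r
    exact perfectPart_normal _
  have hNW : ∀ r, ∀ z ∈ N r, z ∈ W r → z = 1 := by
    intro r z hz hzW
    have hA' := hA.subgroup (W r)
    have hb := Cfsg.Agent.S0089.result (G := ↥(W r)) (fun p hp P => by
      haveI : Fact p.Prime := ⟨hp⟩
      exact hA' p P)
    have hc : (⟨z, hzW⟩ : ↥(W r)) ∈ commutator ↥(W r) := by
      have hw : (⁅W r, W r⁆ : Subgroup G) = W r := perfectPart_perfect _
      have h1 : (commutator ↥(W r)).map (W r).subtype = W r := by
        rw [map_subtype_commutator, hw]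
      obtain ⟨w, hw1, hw2⟩ := (h1.symm ▸ hzW : z ∈ (commutator ↥(W r)).map (W r).subtype)
      rwa [show (⟨z, hzW⟩ : ↥(W r)) = w from Subtype.ext hw2.symm]
    have hz' : (⟨z, hzW⟩ : ↥(W r)) ∈ center ↥(W r) := mem_center_iff.2 fun w =>
      Subtype.ext ((mem_centralizer_iff.1 (perfectPart_le _ w.2)) z hz).symm
    exact congrArg Subtype.val ((Subgroup.eq_bot_iff_forall _).1 hb _ ⟨hc, hz'⟩)
  -- `W r` covers `T` for the common primes
  have hcover : ∀ r, r.Prime → r ∣ orderOf x → r ∣ Nat.card (↥E ⧸ Nn) →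
      ((W r).subgroupOf E).map φ = ⊤ := by
    intro r hr hre hrT
    haveI : Fact r.Prime := ⟨hr⟩
    have hrodd : Odd r := hxodd.of_dvd_nat hre
    obtain ⟨R⟩ : Nonempty (Sylow r ↥E) := inferInstance
    have hfix : ∀ e ∈ (R : Subgroup ↥E), (e : G) ∈ centralizer (N r : Set G) := by
      intro e he
      obtain ⟨Rb, hRb⟩ := ((R.2.map E.subtype).map π).exists_le_sylow
      rw [mem_centralizer_iff]
      intro z hz
      have hcomm : π e * π z = π z * π e :=
        (hA.quotient Q0).comm Rb.2 (hRb ⟨e, ⟨e, he, rfl⟩, rfl⟩) (PLocal.pCore_le_sylow Rb hz)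
      set c := z⁻¹ * ((e : G) * z * (e : G)⁻¹) with hc
      have hcQ : c ∈ Q0 := by
        rw [← QuotientGroup.eq_one_iff]
        change π c = 1
        rw [hc, map_mul, map_mul, map_mul, map_inv, map_inv, hcomm]
        group
      obtain ⟨k, hk⟩ := R.2 ⟨e, he⟩
      obtain ⟨j, hj⟩ := (PLocal.isPGroup_pCore 2 G) ⟨c, hcQ⟩
      have hstep : (e : G) * z * (e : G)⁻¹ = z * c := by rw [hc]; group
      have hc1 := OneClassInvolutions.fix_of_step (hrodd.pow (n := k))
        (show (e : G) ^ r ^ k = 1 by simpa using congrArg (fun w : ↥(R : Subgroup ↥E) => ((w : ↥E) : G)) hk) hstep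
        ((mem_centralizer_iff.1 (hEQ0 e.2)) c hcQ).symm
        (congrArg Subtype.val hj : c ^ 2 ^ j = 1)
      rw [hc1, mul_one, mul_inv_eq_iff_eq_mul] at hstep
      exact hstep.symm
    set C' := (centralizer (N r : Set G)).subgroupOf E
    have hC'n : C'.Normal := by
      haveI := hNn r
      exact normal_subgroupOf
    have hC'top : C'.map φ = ⊤ := by
      refine (hTsimple _ (hC'n.map φ hφ)).resolve_left fun h => ?_
      have hRker : (R : Subgroup ↥E) ≤ Nn := by
        intro e he
        rw [← QuotientGroup.eq_one_iff]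
        exact mem_bot.1 (h ▸ mem_map_of_mem φ (hfix e he : e ∈ C'))
      exact R.not_dvd_index (hrT.trans (index_dvd_of_le hRker))
    refine eq_top_iff.2 ((map_perfectPart_eq_top φ hTperf hC'top).ge.trans (map_mono ?_))
    intro e he
    rw [mem_subgroupOf]
    refine le_perfectPart (L := (perfectPart C').map E.subtype) ?_ ?_ ⟨e, he, rfl⟩
    · rw [← map_commutator, perfectPart_perfect]
    · rintro _ ⟨c, hc, rfl⟩
      exact (perfectPart_le C' hc : c ∈ C')
  -- an intersection of the `W r` still covers `T`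
  set R₀ := (orderOf x).primeFactors.filter fun r => r ∣ Nat.card (↥E ⧸ Nn)
  obtain ⟨H, hHn, hHtop, hHW⟩ : ∃ H : Subgroup ↥E, H.Normal ∧ H.map φ = ⊤ ∧
      ∀ r ∈ R₀, ∀ h ∈ H, (h : G) ∈ W r := by
    have hsub : ∀ r ∈ R₀, ((W r).subgroupOf E).map φ = ⊤ := fun r hr => by
      rw [Finset.mem_filter, Nat.mem_primeFactors] at hr
      exact hcover r hr.1.1 hr.1.2.1 hr.2
    clear_value R₀
    revert hsub
    intro hsub
    induction R₀ using Finset.induction_on with
    | empty => exact ⟨⊤, inferInstance, map_top_of_surjective φ hφ, by simp⟩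
    | @insert r s hrs ih =>
      obtain ⟨V, hV, hVtop, hVW⟩ := ih fun q hq => hsub q (Finset.mem_insert_of_mem hq)
      haveI := hV
      haveI := hWn r
      haveI : ((W r).subgroupOf E).Normal := normal_subgroupOf
      refine ⟨V ⊓ (W r).subgroupOf E, inferInstance, ?_, ?_⟩
      · refine eq_top_iff.2 (le_trans ?_ (map_mono (commutator_le_inf V ((W r).subgroupOf E))))
        rw [map_commutator, hVtop, hsub r (Finset.mem_insert_self r s), hTperf]
      · intro q hq v hv
        rcases Finset.mem_insert.1 hq with rfl | hq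
        · exact hv.2
        · exact hVW q hq v hv.1
  -- every element of `T` centralizes a Sylow `2`-subgroup
  have hall : ∀ t : ↥E ⧸ Nn, ∃ R : Sylow 2 (↥E ⧸ Nn),
      ∀ u ∈ (R : Subgroup (↥E ⧸ Nn)), u * t = t * u := by
    intro t
    have hex : ∃ m, ∃ y ∈ H, φ y = t ∧ orderOf y = m := by
      obtain ⟨y, hy, rfl⟩ := (hHtop ▸ mem_top t : t ∈ H.map φ)
      exact ⟨_, y, hy, rfl, rfl⟩
    obtain ⟨y, hyH, hyt, hym⟩ := Nat.find_spec hex
    have hyT : ∀ r, r.Prime → r ∣ orderOf y → r ∣ Nat.card (↥E ⧸ Nn) := by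
      intro r hr hry
      refine dvd_trans ?_ (_root_.orderOf_dvd_natCard t)
      by_contra hrt
      obtain ⟨i, hi⟩ := exists_pow_eq_self_of_coprime (x := t) (n := r)
        (hr.coprime_iff_not_dvd.2 hrt)
      obtain ⟨l, hl⟩ := hry
      have hyim : φ (y ^ (r * i)) = t := by
        rw [map_pow, hyt, pow_mul, hi]
      have hlt : orderOf (y ^ (r * i)) ≤ l := by
        refine Nat.le_of_dvd (Nat.pos_of_ne_zero fun h => ?_) (orderOf_dvd_of_pow_eq_one ?_)
        · rw [h, mul_zero] at hl
          exact (orderOf_pos y).ne' hl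
        · rw [← pow_mul, show r * i * l = r * l * i by ring, ← hl, pow_mul, pow_orderOf_eq_one,
            one_pow]
      have hmin := Nat.find_min' hex ⟨_, pow_mem hyH _, hyim, rfl⟩
      have h2l : l < r * l := by
        refine lt_mul_of_one_lt_left (Nat.pos_of_ne_zero fun h => ?_) hr.one_lt
        rw [h, mul_zero] at hl
        exact (orderOf_pos y).ne' hl
      omega
    set yg : G := (y : G) with hyg
    have hxy : Commute x yg := (mem_centralizer_singleton_iff.1 (hEK y.2)).symm
    set z := x * yg with hz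
    -- `C(z)` lies in `C(x)`
    have hCzx : ∀ g : G, g * z = z * g → g * x = x * g := by
      intro g hg
      set e := orderOf x with he
      let Z : Subgroup G := zpowers x ⊓ centralizer ({g} : Set G)
      suffices hdvd : e ∣ Nat.card ↥Z by
        have hZ : Z = zpowers x := eq_of_le_of_card_ge inf_le_left
          (by rw [Nat.card_zpowers]; exact Nat.le_of_dvd Nat.card_pos hdvd)
        have : x ∈ Z := hZ ▸ mem_zpowers x
        exact (mem_centralizer_singleton_iff.1 this.2).symm
      rw [Nat.dvd_iff_prime_pow_dvd_dvd]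
      intro r i hr hri
      obtain ⟨l, hl⟩ := hri
      have hlpos : l ≠ 0 := fun h => (orderOf_pos x).ne' (by rw [← he, hl, h, mul_zero])
      haveI : Fact r.Prime := ⟨hr⟩
      rcases Nat.eq_zero_or_pos i with hi0 | hi0
      · rw [hi0, pow_zero]; exact one_dvd _
      have hxl : orderOf (x ^ l) = r ^ i := by
        rw [orderOf_pow_of_dvd hlpos ⟨r ^ i, by rw [← he, hl, mul_comm]⟩, ← he, hl,
          Nat.mul_div_cancel _ (Nat.pos_of_ne_zero hlpos)]
      have hgl : g * x ^ l = x ^ l * g := by
        by_cases hry : r ∣ orderOf yg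
        · -- split off the two coordinates
          have hre : r ∣ e := (dvd_pow_self r hi0.ne').trans ⟨l, hl⟩
          have hrR : r ∈ R₀ := Finset.mem_filter.2
            ⟨Nat.mem_primeFactors.2 ⟨hr, hre, (orderOf_pos x).ne'⟩,
              hyT r hr (by rwa [hyg, Subgroup.orderOf_coe] at hry)⟩
          have hxN : x ^ l ∈ N r := by
            rw [mem_comap, map_pow]
            refine mem_pCore_of_mem_fitting (pow_mem hxF l) ?_
            rw [IsPGroup.iff_card, Nat.card_zpowers]
            obtain ⟨b, -, hb⟩ := (Nat.dvd_prime_pow hr).1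
              (hxl ▸ (map_pow π x l ▸ orderOf_map_dvd π (x ^ l)))
            exact ⟨b, hb⟩
          have hyW : yg ^ l ∈ W r := by
            rw [hyg, ← SubgroupClass.coe_pow]
            exact hHW r hrR _ (pow_mem hyH l)
          have hzl : z ^ l = x ^ l * yg ^ l := hxy.mul_pow l
          have hgz : g * (x ^ l * yg ^ l) * g⁻¹ = x ^ l * yg ^ l := by
            rw [← hzl, (Commute.pow_right (show Commute g z from hg) l).eq, mul_inv_cancel_right]
          have h1 : (x ^ l)⁻¹ * (g * x ^ l * g⁻¹) = yg ^ l * (g * (yg ^ l) * g⁻¹)⁻¹ := by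
            rw [inv_mul_eq_iff_eq_mul, ← mul_assoc, eq_mul_inv_iff_mul_eq, conj_mul]
            exact hgz
          have h2 : (x ^ l)⁻¹ * (g * x ^ l * g⁻¹) = 1 := hNW r _
            (mul_mem (inv_mem hxN) ((hNn r).conj_mem _ hxN g))
            (h1 ▸ mul_mem hyW (inv_mem ((hWn r).conj_mem _ hyW g)))
          rw [inv_mul_eq_one] at h2
          rw [eq_comm, mul_inv_eq_iff_eq_mul] at h2
          exact h2
        · set m := orderOf yg
          have hcop : m.Coprime (r ^ i) :=
            ((hr.coprime_iff_not_dvd.2 hry).symm).pow_right i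
          have h1 : g * (x ^ l) ^ m = (x ^ l) ^ m * g := by
            have : z ^ (l * m) = (x ^ l) ^ m := by
              rw [hz, hxy.mul_pow, pow_mul, pow_mul', pow_orderOf_eq_one, one_pow, mul_one]
            rw [← this]
            exact (Commute.pow_right (show Commute g z from hg) _).eq
          obtain ⟨b, hb⟩ := exists_pow_eq_self_of_coprime (x := x ^ l) (n := m) (hxl.symm ▸ hcop)
          rw [← hb]
          exact (Commute.pow_right (show Commute g _ from h1) b).eq
      have hmemZ : x ^ l ∈ Z := ⟨pow_mem (mem_zpowers x) l,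
        mem_centralizer_singleton_iff.2 hgl.symm⟩
      exact hxl ▸ Subgroup.orderOf_dvd_natCard Z hmemZ
    set L := centralizer ({z} : Set G) with hL
    have hLK : L ≤ K := fun g hg =>
      mem_centralizer_singleton_iff.2 (hCzx g (mem_centralizer_singleton_iff.1 hg))
    have hLodd : ¬ 2 ∣ L.relIndex K := by
      intro hd
      refine hmax z ?_
      rw [← hL, ← relIndex_mul_index hLK, hx, pow_succ, mul_comm (2 ^ a)]
      exact mul_dvd_mul hd dvd_rfl
    -- a Sylow `2`-subgroup of `C(z)` works
    obtain ⟨P⟩ : Nonempty (Sylow 2 ↥L) := inferInstance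
    set P₀ := (P : Subgroup ↥L).map L.subtype
    have hP₀L : P₀ ≤ L := map_subtype_le _
    have hP₀odd : ¬ 2 ∣ P₀.relIndex K := by
      rw [← relIndex_mul_relIndex P₀ L K hP₀L hLK]
      refine fun hd => (Nat.prime_two.dvd_mul.1 hd).elim ?_ hLodd
      rw [relIndex, subgroupOf, comap_map_eq_self_of_injective L.subtype_injective]
      exact P.not_dvd_index
    have hRp : IsPGroup 2 ↥((P₀.subgroupOf E).map φ) :=
      ((P.2.map _).comap_of_injective E.subtype E.subtype_injective).map φ
    have hRidx : ¬ 2 ∣ ((P₀.subgroupOf E).map φ).index := fun hd => hP₀odd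
      ((hd.trans (index_map_dvd _ hφ)).trans
        (relIndex_dvd_of_normalized (hP₀L.trans hLK) hEK hEn))
    refine ⟨hRp.toSylow hRidx, ?_⟩
    rintro _ ⟨p, hp, rfl⟩
    rw [← hyt, ← map_mul, ← map_mul]
    congr 1
    refine Subtype.ext ?_
    have h1 : (p : G) * z = z * (p : G) := mem_centralizer_singleton_iff.1 (hP₀L hp)
    have h2 : (p : G) * x = x * (p : G) := hCzx _ h1
    change (p : G) * yg = yg * (p : G)
    rw [hz, ← mul_assoc, h2, mul_assoc, mul_assoc] at h1
    exact mul_left_cancel h1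
  obtain ⟨Q⟩ : Nonempty (Sylow 2 (↥E ⧸ Nn)) := inferInstance
  have hQc := le_center_of_forall_centralizes Q hall
  rcases hTsimple (center (↥E ⧸ Nn)) inferInstance with hc | hc
  · rw [hc, le_bot_iff] at hQc
    have hodd : Odd (Nat.card (↥E ⧸ Nn)) := by
      have := Q.not_dvd_index
      rw [hQc, index_bot] at this
      rwa [← Nat.not_even_iff_odd, even_iff_two_dvd]
    haveI := Cfsg.Agent.S0205.result hodd
    have htb := eq_bot_of_perfect hTperf
    refine hTnt fun u v => ?_
    rw [(mem_bot.1 (htb ▸ mem_top u) : u = 1), one_mul, mul_one]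
  · exact hTnt fun u v => mem_center_iff.1 (hc ▸ mem_top v : v ∈ center _) u

end CfsgLib.AGroups
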